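import Mathlib.RingTheory.Valuation.LocalSubring
import Mathlib.FieldTheory.IsAlgClosed.Basic
import Mathlib.RingTheory.Jacobson.Ring

/-!
# Extension of places into an algebraically closed field
-/

universe u

open Polynomial

noncomputable section

namespace Groth.Agent.SemiCont

variable {L Ω : Type u} [Field L] [Field Ω]

/-- A partially defined place, given by its graph. -/
def IsGraph (Γ : Subring (L × Ω)) : Prop := ∀ z ∈ Γ, z.1 = 0 → z.2 = 0

/-- The extension of a graph by the ring generated by one element and a value for it. -/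
theorem exists_bigger [IsAlgClosed Ω] {Γ : Subring (L × Ω)} (hΓ : IsGraph Γ) {A : Subring L}
    (hA : ∀ x, x ∈ A ↔ ∃ z ∈ Γ, z.1 = x) (hloc : ∀ z ∈ Γ, z.2 ≠ 0 → ∃ w ∈ Γ, w.1 * z.1 = 1) (x : L) (M : Ideal (Algebra.adjoin A {x}))
    (hM : M.IsMaximal) (hmM : ∀ z (hz : z ∈ Γ), z.2 = 0 →
      algebraMap A (Algebra.adjoin A {x}) ⟨z.1, (hA _).2 ⟨z, hz, rfl⟩⟩ ∈ M) :
    ∃ Γ' : Subring (L × Ω), IsGraph Γ' ∧ Γ ≤ Γ' ∧ ∃ z ∈ Γ', z.1 = x := by
  classical
  have huniq : ∀ a : A, ∃! y : Ω, ((a : L), y) ∈ Γ := fun a => by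
    obtain ⟨z, hz, hza⟩ := (hA a).1 a.2
    refine ⟨z.2, ?_, fun y hy => ?_⟩
    · show ((a : L), z.2) ∈ Γ
      rw [← hza]; exact hz
    · have := hΓ _ (sub_mem hy hz) (by simp [hza])
      exact sub_eq_zero.1 this
  choose f hf hfu using huniq
  let φ : A →+* Ω :=
    { toFun := f
      map_one' := (hfu 1 _ (one_mem Γ)).symm
      map_mul' := fun a b => (hfu (a * b) _ (mul_mem (hf a) (hf b))).symm
      map_zero' := (hfu 0 _ (zero_mem Γ)).symm
      map_add' := fun a b => (hfu (a + b) _ (add_mem (hf a) (hf b))).symm }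
  let T := Algebra.adjoin A {x}
  letI : Field (T ⧸ M) := Ideal.Quotient.field M
  let m : Ideal A := RingHom.ker φ
  have hmM' : ∀ a ∈ m, algebraMap A T a ∈ M := fun a ha => hmM _ (hf a) ha
  have hu : ∀ a : A, a ∉ m → IsUnit a := fun a ha => by
    obtain ⟨w, hw, hwa⟩ := hloc _ (hf a) ha
    exact IsUnit.of_mul_eq_one ⟨w.1, (hA _).2 ⟨w, hw, rfl⟩⟩ (Subtype.ext ((mul_comm _ _).trans hwa))
  haveI : m.IsMaximal := by
    refine Ideal.isMaximal_iff.2 ⟨fun h => one_ne_zero (h.symm.trans (map_one φ)).symm, fun J a hJ ha haJ => ?_⟩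
    exact (Ideal.eq_top_iff_one J).1 (Ideal.eq_top_of_isUnit_mem _ haJ (hu a ha))
  letI : Field (A ⧸ m) := Ideal.Quotient.field m
  letI : Algebra (A ⧸ m) (T ⧸ M) := (Ideal.Quotient.lift m ((Ideal.Quotient.mk M).comp (algebraMap A T))
    (fun a ha => Ideal.Quotient.eq_zero_iff_mem.2 (hmM' a ha))).toAlgebra
  letI : Algebra (A ⧸ m) Ω := (RingHom.kerLift φ).toAlgebra
  haveI : IsScalarTower A (A ⧸ m) (T ⧸ M) := IsScalarTower.of_algebraMap_eq (fun a => rfl)
  haveI : Algebra.FiniteType A T :=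
    ⟨(Subalgebra.fg_top _).2 ⟨{x}, by rw [Finset.coe_singleton]⟩⟩
  haveI : Algebra.FiniteType A (T ⧸ M) :=
    Algebra.FiniteType.of_surjective (Ideal.Quotient.mkₐ A M) (Ideal.Quotient.mkₐ_surjective A M)
  haveI : Algebra.FiniteType (A ⧸ m) (T ⧸ M) := Algebra.FiniteType.of_restrictScalars_finiteType A _ _
  haveI : Module.Finite (A ⧸ m) (T ⧸ M) := finite_of_finite_type_of_isJacobsonRing _ _
  let ψ : (T ⧸ M) →ₐ[A ⧸ m] Ω := IsAlgClosed.lift
  let e : T →+* L × Ω := RingHom.prod T.val.toRingHom (ψ.toRingHom.comp (Ideal.Quotient.mk M))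
  have he : ∀ a : A, e (algebraMap A T a) = ((a : L), f a) := fun a => by
    refine Prod.ext rfl ?_
    show ψ (algebraMap (A ⧸ m) (T ⧸ M) (Ideal.Quotient.mk m a)) = f a
    rw [AlgHom.commutes]
    rfl
  refine ⟨e.range, ?_, fun z hz => ?_, e ⟨x, Algebra.self_mem_adjoin_singleton A x⟩, ⟨_, rfl⟩, rfl⟩
  · rintro _ ⟨t, rfl⟩ ht
    have : t = 0 := Subtype.ext ht
    show ψ (Ideal.Quotient.mk M t) = 0
    rw [this, map_zero, map_zero]
  · refine ⟨algebraMap A T ⟨z.1, (hA _).2 ⟨z, hz, rfl⟩⟩, (he _).trans (Prod.ext rfl ?_)⟩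
    exact (hfu _ _ hz).symm

/-- A place of an algebraically closed field extending given homomorphisms. -/
theorem exists_place [IsAlgClosed L] [IsAlgClosed Ω] {R : Type u} [CommRing R] (i : R →+* L) (p : R →+* Ω)
    (hker : RingHom.ker i ≤ RingHom.ker p)
    (halg : ∀ y : Ω, ∃ q : R[X], q.map p ≠ 0 ∧ q.eval₂ p y = 0) :
    ∃ (V : ValuationSubring L) (i' : R →+* V) (φ : V →+* Ω),
      V.subtype.comp i' = i ∧ φ.comp i' = p ∧ Function.Surjective φ := by
  classical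
  let P : Set (Subring (L × Ω)) := {Γ | IsGraph Γ ∧ (RingHom.prod i p).range ≤ Γ}
  have h0 : (RingHom.prod i p).range ∈ P := by
    refine ⟨?_, le_rfl⟩
    rintro _ ⟨r, rfl⟩ h
    exact hker h
  obtain ⟨Γ, -, ⟨hΓ, hR⟩, hmax⟩ := zorn_le_nonempty₀ P (fun c hc hch y hy => by
    have hdir : DirectedOn (· ≤ ·) c := hch.directedOn
    refine ⟨sSup c, ⟨fun z hz => ?_, (hc hy).2.trans (le_sSup hy)⟩, fun z hz => le_sSup hz⟩
    obtain ⟨Γ, hΓ, hzΓ⟩ := (Subring.mem_sSup_of_directedOn ⟨y, hy⟩ hdir).1 hz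
    exact (hc hΓ).1 z hzΓ) _ h0
  have hbig : ∀ Γ' : Subring (L × Ω), IsGraph Γ' → Γ ≤ Γ' → Γ' ≤ Γ :=
    fun Γ' h1 h2 => hmax ⟨h1, hR.trans h2⟩ h2
  let A : Subring L := Γ.map (RingHom.fst L Ω)
  have hA : ∀ x, x ∈ A ↔ ∃ z ∈ Γ, z.1 = x := fun x => Subring.mem_map
  have hloc : ∀ z ∈ Γ, z.2 ≠ 0 → ∃ w ∈ Γ, w.1 * z.1 = 1 := by
    intro z hz hz2
    have hz1 : z.1 ≠ 0 := fun h => hz2 (hΓ z hz h)
    let Γ' : Subring (L × Ω) :=
      { carrier := {w | ∃ n : ℕ, w * z ^ n ∈ Γ}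
        one_mem' := ⟨0, by simp⟩
        zero_mem' := ⟨0, by simp⟩
        mul_mem' := by
          rintro a b ⟨n, hn⟩ ⟨l, hl⟩
          exact ⟨n + l, by rw [pow_add, mul_mul_mul_comm]; exact mul_mem hn hl⟩
        add_mem' := by
          rintro a b ⟨n, hn⟩ ⟨l, hl⟩
          refine ⟨n + l, ?_⟩
          rw [add_mul, pow_add]
          refine add_mem ?_ ?_
          · rw [← mul_assoc]; exact mul_mem hn (pow_mem hz l)
          · rw [mul_comm (z ^ n), ← mul_assoc]; exact mul_mem hl (pow_mem hz n)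
        neg_mem' := by
          rintro a ⟨n, hn⟩
          exact ⟨n, by rw [neg_mul]; exact neg_mem hn⟩ }
    have hg : IsGraph Γ' := by
      rintro w ⟨n, hn⟩ hw
      have := hΓ _ hn (by simp [hw])
      rcases mul_eq_zero.1 (show w.2 * z.2 ^ n = 0 by simpa using this) with h | h
      · exact h
      · exact absurd (eq_zero_of_pow_eq_zero h) hz2
    refine ⟨(z.1⁻¹, z.2⁻¹), hbig Γ' hg (fun w hw => ⟨0, by simpa using hw⟩) ⟨1, ?_⟩, inv_mul_cancel₀ hz1⟩
    rw [pow_one, show ((z.1⁻¹, z.2⁻¹) : L × Ω) * z = 1 from Prod.ext (inv_mul_cancel₀ hz1) (inv_mul_cancel₀ hz2)]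
    exact one_mem _
  have huniq : ∀ a : A, ∃! y : Ω, ((a : L), y) ∈ Γ := fun a => by
    obtain ⟨z, hz, hza⟩ := (hA a).1 a.2
    refine ⟨z.2, ?_, fun y hy => ?_⟩
    · show ((a : L), z.2) ∈ Γ
      rw [← hza]; exact hz
    · exact sub_eq_zero.1 (hΓ _ (sub_mem hy hz) (by simp [hza]))
  choose f hf hfu using huniq
  let φ : A →+* Ω :=
    { toFun := f
      map_one' := (hfu 1 _ (one_mem Γ)).symm
      map_mul' := fun a b => (hfu (a * b) _ (mul_mem (hf a) (hf b))).symm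
      map_zero' := (hfu 0 _ (zero_mem Γ)).symm
      map_add' := fun a b => (hfu (a + b) _ (add_mem (hf a) (hf b))).symm }
  have hu : ∀ a : A, φ a ≠ 0 → IsUnit a := fun a ha => by
    obtain ⟨w, hw, hwa⟩ := hloc _ (hf a) ha
    exact IsUnit.of_mul_eq_one ⟨w.1, (hA _).2 ⟨w, hw, rfl⟩⟩ (Subtype.ext ((mul_comm _ _).trans hwa))
  haveI : IsLocalRing A := IsLocalRing.of_isUnit_or_isUnit_one_sub_self fun a => by
    by_cases ha : φ a = 0
    · exact Or.inr (hu _ (by rw [map_sub, map_one, ha, sub_zero]; exact one_ne_zero))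
    · exact Or.inl (hu a ha)
  have hmaxA : IsMax (LocalSubring.mk A) := by
    intro B hB
    refine ⟨fun x hx => ?_, ?_⟩
    swap
    · refine ⟨fun a ha => ?_⟩
      obtain ⟨b, hb⟩ := isUnit_iff_exists_inv.1 ha
      exact ha.map (Subring.inclusion hB.1)
    by_contra hxA
    let T := Algebra.adjoin A {x}
    have hTB : T.toSubring ≤ B.toSubring := by
      show T.toSubring ≤ B.toSubring
      rw [Algebra.adjoin_eq_ring_closure]
      refine Subring.closure_le.2 ?_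
      rintro y (⟨a, rfl⟩ | hy)
      · exact hB.1 a.2
      · rw [Set.mem_singleton_iff.1 hy]; exact hx
    haveI := hB.2
    let J : Ideal T := (IsLocalRing.maximalIdeal B.toSubring).comap (Subring.inclusion hTB)
    obtain ⟨M, hM, hJM⟩ := Ideal.exists_le_maximal J (Ideal.comap_ne_top _ (IsLocalRing.maximalIdeal.isMaximal _).ne_top)
    have hMJ : ∀ z (hz : z ∈ Γ), z.2 = 0 → algebraMap A T ⟨z.1, (hA _).2 ⟨z, hz, rfl⟩⟩ ∈ M := fun z hz hz2 => by
      refine hJM ?_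
      intro hu'
      have h2 : IsUnit (⟨z.1, (hA _).2 ⟨z, hz, rfl⟩⟩ : A) := IsUnit.of_map (Subring.inclusion hB.1) _ hu'
      exact (h2.map φ).ne_zero ((hfu _ _ hz).symm.trans hz2)
    obtain ⟨Γ', hg, hle, z, hz, hzx⟩ := exists_bigger hΓ hA hloc x M hM hMJ
    exact hxA ((hA x).2 ⟨z, hbig Γ' hg hle hz, hzx⟩)
  obtain ⟨V, hV⟩ := LocalSubring.exists_valuationRing_of_isMax hmaxA
  have hVA : V.toSubring = A := congrArg LocalSubring.toSubring hV
  let c : V →+* A := Subring.inclusion (le_of_eq hVA)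
  let i' : R →+* V := i.codRestrict V.toSubring fun r => hVA.ge ((hA _).2 ⟨_, hR ⟨r, rfl⟩, rfl⟩)
  have hp : (φ.comp c).comp i' = p := RingHom.ext fun r => (hfu _ _ (hR ⟨r, rfl⟩)).symm
  refine ⟨V, i', φ.comp c, RingHom.ext fun r => rfl, hp, fun y => ?_⟩
  obtain ⟨q, hq, hqy⟩ := halg y
  let c₀ := (q.map p).leadingCoeff
  have hc : c₀ ∈ (φ.comp c).range := ⟨i' (q.coeff (q.map p).natDegree), by
    rw [← RingHom.comp_apply, hp]; exact (coeff_map p _).symm⟩
  have hinv : c₀⁻¹ ∈ (φ.comp c).range := by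
    obtain ⟨v, hv⟩ := hc
    have hvu : IsUnit (c v) := hu _ (by
      show φ (c v) ≠ 0
      rw [show φ (c v) = c₀ from hv]
      exact leadingCoeff_ne_zero.2 hq)
    obtain ⟨w, hw⟩ := isUnit_iff_exists_inv.1 hvu
    refine ⟨⟨w, hVA.ge w.2⟩, eq_inv_of_mul_eq_one_left ?_⟩
    rw [← hv, RingHom.comp_apply, RingHom.comp_apply, ← map_mul,
      show c ⟨w, hVA.ge w.2⟩ * c v = 1 from by rw [mul_comm]; exact hw, map_one]
  have hlift : q.map p * C c₀⁻¹ ∈ lifts (φ.comp c) := by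
    refine mul_mem ?_ ?_
    · exact ⟨q.map i', by rw [coe_mapRingHom, Polynomial.map_map, hp]⟩
    · obtain ⟨w, hw⟩ := hinv
      exact ⟨C w, by rw [coe_mapRingHom, map_C, hw]⟩
  obtain ⟨g, hg, -, hmon⟩ := lifts_and_degree_eq_and_monic hlift (monic_mul_leadingCoeff_inv hq)
  have hs : (g.map V.subtype).Splits := IsAlgClosed.splits _
  have hroots : ∀ r ∈ (g.map V.subtype).roots, r ∈ V := fun r hr => by
    have h1 : IsIntegral V r := ⟨g, hmon, by
      have := (mem_roots'.1 hr).2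
      rwa [IsRoot.def, eval_map] at this⟩
    obtain ⟨v, hv⟩ := IsIntegrallyClosed.isIntegral_iff.1 h1
    rw [← hv]; exact v.2
  have hprod : g = ((g.map V.subtype).roots.attach.map fun r => X - C (⟨r.1, hroots r.1 r.2⟩ : V)).prod := by
    apply map_injective V.subtype Subtype.val_injective
    rw [Polynomial.map_multiset_prod, Multiset.map_map]
    refine (hs.eq_prod_roots_of_monic (hmon.map _)).trans ?_
    conv_lhs => rw [← (g.map V.subtype).roots.attach_map_val]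
    rw [Multiset.map_map]
    refine congrArg Multiset.prod (Multiset.map_congr rfl fun r _ => ?_)
    simp
  have h0 : g.eval₂ (φ.comp c) y = 0 := by
    rw [← eval_map, hg, eval_mul, eval_map, hqy, zero_mul]
  rw [hprod, eval₂_multiset_prod, Multiset.prod_eq_zero_iff, Multiset.map_map] at h0
  obtain ⟨r, -, hr⟩ := Multiset.mem_map.1 h0
  refine ⟨⟨r.1, hroots r.1 r.2⟩, ?_⟩
  simp only [Function.comp_apply, eval₂_sub, eval₂_X, eval₂_C, sub_eq_zero] at hr
  exact hr.symm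

end Groth.Agent.SemiCont
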