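import Groth.Agent.SemiCont.Isog

/-!
# Solvability, nilpotence, commutativity of a smooth group through its geometric points
-/

universe u

open CategoryTheory CategoryTheory.Limits MonoidalCategory CartesianMonoidalCategory MonObj GrpObj AlgebraicGeometry


set_option backward.isDefEq.respectTransparency false
set_option synthInstance.maxHeartbeats 400000
set_option linter.style.haveILetI false
set_option linter.unusedSectionVars false

noncomputable section

namespace Groth.Agent.SemiCont

open AVDeg (specMap)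

variable {F : Type u} [Field F] (L : Type u) [Field L] [IsAlgClosed L] [Algebra F L]
  (G : Over (Spec (CommRingCat.of F))) [GrpObj G]

/-- Points with values in `L` are rational points of the base change. -/
def ptBC : ((Over.mk (specMap F L) : Over (Spec (CommRingCat.of F))) ⟶ G) ≃*
    (𝟙_ (Over (Spec (CommRingCat.of L))) ⟶ Red.bc (specMap F L) G) :=
  let u : (Over.map (specMap F L)).obj (𝟙_ (Over (Spec (CommRingCat.of L)))) ≅ Over.mk (specMap F L) :=
    Over.isoMk (Iso.refl _) (by
      show 𝟙 _ ≫ specMap F L = 𝟙 _ ≫ specMap F L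
      rfl)
  MulEquiv.trans
    { toFun := fun x => u.hom ≫ x
      invFun := fun x => u.inv ≫ x
      left_inv := fun x => u.inv_hom_id_assoc x
      right_inv := fun x => u.hom_inv_id_assoc x
      map_mul' := fun x y => MonObj.comp_mul _ x y }
    (LimGrp.bcMulEquiv (specMap F L) (𝟙_ (Over (Spec (CommRingCat.of L)))) G)

variable [Smooth G.hom] [QuasiCompact G.hom]

theorem derived_iff (n : ℕ) : (∀ T : Over (Spec (CommRingCat.of F)), derivedSeries (T ⟶ G) n = ⊥) ↔
    derivedSeries (𝟙_ (Over (Spec (CommRingCat.of L))) ⟶ Red.bc (specMap F L) G) n = ⊥ := by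
  rw [(Groth.Agent.S5366.result F G L n).1, ← map_derivedSeries_eq (f := (ptBC L G).toMonoidHom) (ptBC L G).surjective]
  exact (Subgroup.map_eq_bot_iff_of_injective _ (ptBC L G).injective).symm

theorem isSolvableGrp_iff_rp : Red.IsSolvableGrp G ↔
    Group.IsSolvable (𝟙_ (Over (Spec (CommRingCat.of L))) ⟶ Red.bc (specMap F L) G) := by
  constructor
  · rintro ⟨n, hn⟩
    exact ⟨n, (derived_iff L G n).1 hn⟩
  · rintro ⟨n, hn⟩
    exact ⟨n, (derived_iff L G n).2 hn⟩

theorem lower_iff (n : ℕ) :
    (∀ T : Over (Spec (CommRingCat.of F)), Subgroup.upperCentralSeries (T ⟶ G) n = ⊤) ↔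
    Subgroup.lowerCentralSeries (⊤ : Subgroup (𝟙_ (Over (Spec (CommRingCat.of L))) ⟶ Red.bc (specMap F L) G)) n = ⊥ := by
  simp only [← Subgroup.lowerCentralSeries_eq_bot_iff_upperCentralSeries_eq_top]
  rw [(Groth.Agent.S5366.result F G L n).2, ← Subgroup.map_top_of_surjective (ptBC L G).toMonoidHom (ptBC L G).surjective,
    ← Subgroup.map_lowerCentralSeries]
  exact (Subgroup.map_eq_bot_iff_of_injective _ (ptBC L G).injective).symm

theorem isNilpotentGrp_iff_rp : AGF.IsNilpotentGrp G ↔
    Group.IsNilpotent (𝟙_ (Over (Spec (CommRingCat.of L))) ⟶ Red.bc (specMap F L) G) := by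
  rw [Subgroup.nilpotent_iff_lowerCentralSeries]
  exact exists_congr fun n => lower_iff L G n

theorem isCommMonObj_iff_rp : IsCommMonObj G ↔
    ∀ x y : 𝟙_ (Over (Spec (CommRingCat.of L))) ⟶ Red.bc (specMap F L) G, x * y = y * x := by
  constructor
  · intro h x y
    obtain ⟨a, rfl⟩ := (ptBC L G).surjective x
    obtain ⟨b, rfl⟩ := (ptBC L G).surjective y
    rw [← map_mul, ← map_mul, mul_comm]
  · intro h
    have h1 : derivedSeries (𝟙_ (Over (Spec (CommRingCat.of L))) ⟶ Red.bc (specMap F L) G) 1 = ⊥ := by
      rw [derivedSeries_succ, derivedSeries_zero, Subgroup.commutator_eq_bot_iff_le_centralizer]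
      exact fun x _ y _ => h y x
    have h3 := (derived_iff L G 1).2 h1 (G ⊗ G)
    rw [derivedSeries_succ, derivedSeries_zero, Subgroup.commutator_eq_bot_iff_le_centralizer] at h3
    constructor
    have hc : fst G G * snd G G = snd G G * fst G G := (h3 trivial _ trivial).symm
    rw [Hom.mul_def, Hom.mul_def, lift_fst_snd, Category.id_comp] at hc
    calc (β_ G G).hom ≫ μ[G] = lift (snd G G) (fst G G) ≫ μ[G] := by
          congr 1
      _ = μ[G] := hc.symm

end Groth.Agent.SemiCont
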