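import Groth.Agent.SemiCont.Derived

/-!
# The derived group specialises
-/

universe u

open CategoryTheory CategoryTheory.Limits MonoidalCategory CartesianMonoidalCategory MonObj GrpObj AlgebraicGeometry TopologicalSpace

set_option backward.isDefEq.respectTransparency false
set_option synthInstance.maxHeartbeats 400000

noncomputable section

namespace Groth.Agent.SemiCont

theorem exists_normal_of_eq {S : Scheme.{u}} (G : Over S) [GrpObj G] [Smooth G.hom]
    {V : Type u} [CommRing V] [IsDomain V] [ValuationRing V] (g : Spec (CommRingCat.of V) ⟶ S)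
    {L Ω : Type u} [Field L] [IsAlgClosed L] [Algebra V L] [IsFractionRing V L] [Field Ω] [IsAlgClosed Ω]
    [Algebra V Ω] (hb : Function.Surjective (algebraMap V Ω))
    {jL : Spec (CommRingCat.of L) ⟶ S} (hL : Spec.map (CommRingCat.ofHom (algebraMap V L)) ≫ g = jL)
    {jΩ : Spec (CommRingCat.of Ω) ⟶ S} (hΩ : Spec.map (CommRingCat.ofHom (algebraMap V Ω)) ≫ g = jΩ)
    {N : Over (Spec (CommRingCat.of L))} [GrpObj N] (n : N ⟶ Red.bc jL G) [IsMonHom n] [IsClosedImmersion n.left]
    (hcm : ∀ x y : 𝟙_ (Over (Spec (CommRingCat.of L))) ⟶ Red.bc jL G, ∃ m, x * y * x⁻¹ * y⁻¹ = m ≫ n) :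
    ∃ (N' : Over (Spec (CommRingCat.of Ω))) (_ : GrpObj N') (i : N' ⟶ Red.bc jΩ G),
      IsMonHom i ∧ IsClosedImmersion i.left ∧ AlgGrp.IsNormalHom i ∧
      (∀ (T : Over (Spec (CommRingCat.of Ω))) (a b : T ⟶ Red.bc jΩ G), ∃ m : T ⟶ N', a * b * a⁻¹ * b⁻¹ = m ≫ i) ∧
      topologicalKrullDim N'.left ≤ topologicalKrullDim N.left := by
  subst hL hΩ
  exact exists_normal_limit G g hb n hcm

/-- The derived group of a geometric fibre specialises. -/
theorem exists_normal_of_specializes {S : Scheme.{u}} (G : Over S) [GrpObj G] [Smooth G.hom] {s s' : S} (h : s ⤳ s')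
    (N : Over (Spec (CommRingCat.of (AlgebraicClosure (S.residueField s))))) [GrpObj N]
    (n : N ⟶ Red.geomFibre s G) [IsMonHom n] [IsClosedImmersion n.left]
    (hcm : ∀ x y : 𝟙_ (Over (Spec (CommRingCat.of (AlgebraicClosure (S.residueField s))))) ⟶ Red.geomFibre s G,
      ∃ m, x * y * x⁻¹ * y⁻¹ = m ≫ n) :
    ∃ (N' : Over (Spec (CommRingCat.of (AlgebraicClosure (S.residueField s'))))) (_ : GrpObj N')
      (i : N' ⟶ Red.geomFibre s' G),
      IsMonHom i ∧ IsClosedImmersion i.left ∧ AlgGrp.IsNormalHom i ∧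
      (∀ (T : Over (Spec (CommRingCat.of (AlgebraicClosure (S.residueField s'))))) (a b : T ⟶ Red.geomFibre s' G),
        ∃ m : T ⟶ N', a * b * a⁻¹ * b⁻¹ = m ≫ i) ∧
      topologicalKrullDim N'.left ≤ topologicalKrullDim N.left := by
  let R : Type u := S.presheaf.stalk s'
  let cs := S.presheaf.stalkSpecializes h ≫ S.residue s ≫
    CommRingCat.ofHom (algebraMap (S.residueField s) (AlgebraicClosure (S.residueField s)))
  let cs' := S.residue s' ≫ CommRingCat.ofHom (algebraMap (S.residueField s') (AlgebraicClosure (S.residueField s')))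
  have hker : RingHom.ker cs.hom ≤ RingHom.ker cs'.hom := by
    intro x hx
    have hx' : x ∈ IsLocalRing.maximalIdeal (S.presheaf.stalk s') :=
      IsLocalRing.le_maximalIdeal (RingHom.ker_ne_top _) hx
    show cs'.hom x = 0
    show algebraMap _ _ (S.residue s' x) = 0
    rw [show S.residue s' x = 0 from Ideal.Quotient.eq_zero_iff_mem.2 hx', map_zero]
  have halg : ∀ y, ∃ q : Polynomial R, q.map cs'.hom ≠ 0 ∧ q.eval₂ cs'.hom y = 0 := fun y => by
    obtain ⟨q₀, hq₀, hy⟩ := Algebra.IsAlgebraic.isAlgebraic (R := S.residueField s') y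
    obtain ⟨q, rfl⟩ := Polynomial.map_surjective (S.residue s').hom Ideal.Quotient.mk_surjective q₀
    refine ⟨q, ?_, ?_⟩
    · show q.map ((algebraMap _ _).comp (S.residue s').hom) ≠ 0
      rw [← Polynomial.map_map]
      exact fun e => hq₀ ((Polynomial.map_eq_zero _).1 e)
    · show q.eval₂ ((algebraMap _ _).comp (S.residue s').hom) y = 0
      rw [← Polynomial.eval₂_map]
      exact hy
  obtain ⟨V, i', φ, hi, hφ, hφs⟩ := exists_place cs.hom cs'.hom hker halg
  letI : Algebra V (AlgebraicClosure (S.residueField s')) := φ.toAlgebra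
  refine exists_normal_of_eq G (Spec.map (CommRingCat.ofHom i') ≫ S.fromSpecStalk s') hφs ?_ ?_ n hcm
  · rw [← Spec.map_comp_assoc, show CommRingCat.ofHom i' ≫ CommRingCat.ofHom (algebraMap V _) = cs from
      CommRingCat.hom_ext hi]
    show Spec.map cs ≫ _ = Red.geomPt s
    simp only [cs, Spec.map_comp, Category.assoc, Scheme.SpecMap_stalkSpecializes_fromSpecStalk]
    rfl
  · rw [← Spec.map_comp_assoc, show CommRingCat.ofHom i' ≫ CommRingCat.ofHom (algebraMap V _) = cs' from
      CommRingCat.hom_ext hφ]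
    show Spec.map cs' ≫ _ = Red.geomPt s'
    simp only [cs', Spec.map_comp, Category.assoc]
    rfl

end Groth.Agent.SemiCont
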