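import Groth.Agent.SemiCont.IsogBC
import Groth.Agent.Chev.AffImage
import Groth.Agent.FinDim.Basic
import Groth.Agent.Chev.MaxTorusImage
import Groth.Agent.S7552

/-!
# Smooth connected affine solvable subgroups and isogenies
-/

universe u

open CategoryTheory CategoryTheory.Limits MonoidalCategory CartesianMonoidalCategory MonObj GrpObj AlgebraicGeometry
open Groth.Agent.SubGen (rpt exists_rpt rpt_injective rpt_mem_closedPoints map_rpt)

set_option backward.isDefEq.respectTransparency false
set_option synthInstance.maxHeartbeats 400000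
set_option maxHeartbeats 1000000
set_option linter.style.haveILetI false
set_option linter.unusedSectionVars false

noncomputable section

namespace Groth.Agent.SemiCont

variable {k : Type u} [Field k] [IsAlgClosed k] {G H : Over (Spec (CommRingCat.of k))} [GrpObj G] [GrpObj H]
  [LocallyOfFiniteType G.hom] [LocallyOfFiniteType H.hom] [QuasiCompact G.hom] [QuasiCompact H.hom]
  (f : G ⟶ H) [IsMonHom f] [Surjective f.left] [IsFinite f.left]

local notation "RPt" K:max => (𝟙_ (Over (Spec (CommRingCat.of k))) ⟶ K)

/-- The map of rational points. -/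
def ptsMap' {A B : Over (Spec (CommRingCat.of k))} [GrpObj A] [GrpObj B] (g : A ⟶ B) [IsMonHom g] : (RPt A) →* (RPt B) :=
  { toFun := fun z => z ≫ g, map_one' := MonObj.one_comp g, map_mul' := fun x y => MonObj.mul_comp x y g }

theorem ptsMap_surjective' {A B : Over (Spec (CommRingCat.of k))} [GrpObj A] [GrpObj B] [LocallyOfFiniteType A.hom]
    [LocallyOfFiniteType B.hom] (g : A ⟶ B) [IsMonHom g] [Surjective g.left] :
    Function.Surjective (ptsMap' g) := fun w => Chev.Borel.exists_rp_preimage g w

theorem finite_ker' {A B : Over (Spec (CommRingCat.of k))} [GrpObj A] [GrpObj B] [LocallyOfFiniteType A.hom]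
    [LocallyOfFiniteType B.hom]
    (g : A ⟶ B) [IsMonHom g] [IsFinite g.left] : ((ptsMap' g).ker : Set (RPt A)).Finite := by
  refine ((g.left.finite_preimage_singleton (rpt (1 : RPt B))).preimage rpt_injective.injOn).subset fun z hz => ?_
  show g.left (rpt z) = rpt (1 : RPt B)
  rw [map_rpt]
  exact congrArg rpt hz

theorem isSolvableGrp_of_rp (K : Over (Spec (CommRingCat.of k))) [GrpObj K] [Smooth K.hom] [QuasiCompact K.hom]
    [Group.IsSolvable (RPt K)] : Red.IsSolvableGrp K := by
  obtain ⟨n, hn⟩ := Group.IsSolvable.solvable (G := RPt K)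
  refine ⟨n, (Groth.Agent.S5366.result k K k n).1.2 ?_⟩
  have e : Over.mk (Spec.map (CommRingCat.ofHom (algebraMap k k))) = 𝟙_ (Over (Spec (CommRingCat.of k))) := by
    rw [Algebra.algebraMap_self]
    exact congrArg Over.mk (Spec.map_id _)
  rw [e]
  exact hn

include f in
/-- The image of a smooth connected affine solvable subgroup. -/
theorem exists_isogeny_image {U : Over (Spec (CommRingCat.of k))} [GrpObj U] (i : U ⟶ G) [IsMonHom i]
    [IsClosedImmersion i.left] [Smooth U.hom] [ConnectedSpace U.left] :
    ∃ (C : Over (Spec (CommRingCat.of k))) (_ : GrpObj C) (j : C ⟶ H) (g : U ⟶ C), IsMonHom j ∧ IsClosedImmersion j.left ∧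
      Smooth C.hom ∧ ConnectedSpace C.left ∧ IsMonHom g ∧ Surjective g.left ∧ IsFinite g.left ∧
      (IsAffine U.left → IsAffine C.left) ∧
      topologicalKrullDim U.left ≤ topologicalKrullDim C.left := by
  haveI : QuasiCompact (i ≫ f).left := by rw [Over.comp_left]; infer_instance
  obtain ⟨C, gC, iC, g, hiC, hg, hgi, hicl, hgd, hgq, hgs⟩ := GrpField.SchImg.exists_image (i ≫ f)
  haveI := hiC; haveI := hg; haveI := hicl; haveI := hgd; haveI := hgq; haveI := hgs
  haveI : LocallyOfFiniteType C.hom := by rw [← Over.w iC]; infer_instance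
  haveI : QuasiCompact C.hom := by rw [← Over.w iC]; infer_instance
  haveI : GeometricallyReduced U.hom := Rigid.geometricallyReduced_of_smooth _
  haveI : GeometricallyReduced C.hom := GrpField.SchImg.geometricallyReduced_of_schDom g
  haveI : IsReduced U.left := SmoothRed.isReduced_of_smooth_scheme U.hom
  haveI : IsReduced C.left := IsSchemeTheoreticallyDominant.isReduced g.left
  letI : GrpObj (Over.mk C.hom) := gC
  haveI : Smooth C.hom := GrpBasic.smooth_of_grpObj_perfect C.hom
  haveI : IsSeparated C.hom := ClosedRep.isSeparated_of_field k C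
  haveI : ConnectedSpace C.left := g.left.surjective.connectedSpace g.left.continuous
  haveI : IsFinite (g.left ≫ iC.left) := by
    rw [← Over.comp_left, hgi, Over.comp_left]; infer_instance
  haveI : IsFinite g.left := IsFinite.of_comp g.left iC.left
  exact ⟨C, gC, iC, g, hiC, hicl, inferInstance, inferInstance, hg, hgs, inferInstance,
    fun h => haveI := h; Chev.isAffine_of_surjective g,
    FinDim.topologicalKrullDim_le_of_isFinite g.left⟩

include f in
/-- The neutral component of the preimage of a smooth connected affine solvable subgroup. -/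
theorem exists_isogeny_preimage {U : Over (Spec (CommRingCat.of k))} [GrpObj U] (j : U ⟶ H) [IsMonHom j]
    [IsClosedImmersion j.left] [Smooth U.hom] [ConnectedSpace U.left] :
    ∃ (K : Over (Spec (CommRingCat.of k))) (_ : GrpObj K) (i : K ⟶ G) (g : K ⟶ U), IsMonHom i ∧ IsClosedImmersion i.left ∧
      Smooth K.hom ∧ ConnectedSpace K.left ∧ IsMonHom g ∧ Surjective g.left ∧ IsFinite g.left ∧
      (IsAffine U.left → IsAffine K.left) ∧
      topologicalKrullDim U.left ≤ topologicalKrullDim K.left := by
  haveI : Mono j := GrpField.SchImg.mono_of_isClosedImmersion j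
  let Φ : Subgroup (RPt G) := (ptsMap' j).range.comap (ptsMap' f)
  obtain ⟨P', gP', i', hm', hc', hs', hr'⟩ := GrpField.RatClosure.exists_subgroup_closure Φ
  haveI := hm'; haveI := hc'; haveI := hs'
  obtain ⟨K, gK, c, hcm, hco, hcr, hKs, hKc⟩ := GModLib.exists_open_connected P'
  haveI := hcm; haveI := hco; haveI := hKs; haveI := hKc
  haveI : IsClosedImmersion c.left := by
    refine IsClosedImmersion.of_isPreimmersion _ ?_
    rw [hcr]; exact isClosed_connectedComponent
  haveI : IsReduced P'.left := SmoothRed.isReduced_of_smooth_scheme P'.hom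
  haveI : JacobsonSpace P'.left := LocallyOfFiniteType.jacobsonSpace P'.hom
  have hmem : ∀ z : RPt P', (i' ≫ f).left (rpt z) ∈ Set.range j.left := by
    intro z
    have h1 : i'.left (rpt z) ∈ closure (GrpField.RatClosure.pt '' (Φ : Set _)) := hr'.le ⟨_, rfl⟩
    have hcl : IsClosed (f.left ⁻¹' Set.range j.left) :=
      j.left.isClosedEmbedding.isClosed_range.preimage f.left.continuous
    show f.left (i'.left (rpt z)) ∈ Set.range j.left
    refine (hcl.closure_subset_iff.2 ?_) h1
    rintro _ ⟨w, hw, rfl⟩
    obtain ⟨t, ht⟩ := hw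
    exact ⟨rpt t, (map_rpt j t).trans ((congrArg rpt ht).trans (map_rpt f w).symm)⟩
  have hlift : ∃ v : P' ⟶ U, v ≫ j = i' ≫ f := by
    have hrg : Set.range (i' ≫ f).left ⊆ Set.range j.left := by
      rintro _ ⟨w, rfl⟩
      have h3 : closedPoints P'.left ⊆ (i' ≫ f).left ⁻¹' Set.range j.left := fun v hv => by
        obtain ⟨z, rfl⟩ := exists_rpt hv
        exact hmem z
      exact (j.left.isClosedEmbedding.isClosed_range.preimage (i' ≫ f).left.continuous).closure_subset_iff.2 h3
        (closure_closedPoints (X := P'.left) ▸ Set.mem_univ w)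
    obtain ⟨l, hl⟩ := RedSepLib.exists_lift_of_isReduced _ j.left hrg
    exact ⟨Over.homMk l (by rw [← Over.w j, reassoc_of% hl, Over.w]), Over.OverMorphism.ext hl⟩
  obtain ⟨v, hv⟩ := hlift
  haveI : IsMonHom (v ≫ j) := by rw [hv]; infer_instance
  haveI : IsMonHom v := Chev.isMonHom_of_comp v j
  haveI : IsFinite (v.left ≫ j.left) := by
    rw [← Over.comp_left, hv, Over.comp_left]; infer_instance
  haveI : IsFinite v.left := IsFinite.of_comp v.left j.left
  -- `v` is surjective
  haveI : Surjective v.left := by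
    refine ⟨fun y => ?_⟩
    have h : closedPoints U.left ⊆ Set.range v.left := fun p hp => by
      haveI : JacobsonSpace U.left := LocallyOfFiniteType.jacobsonSpace U.hom
      obtain ⟨t, rfl⟩ := exists_rpt hp
      obtain ⟨w, hw⟩ := ptsMap_surjective' f (t ≫ j)
      obtain ⟨z, hz⟩ := Groth.Agent.SubGen.exists_rat_lift i' w (IsLocalRing.closedPoint k)
        (hr'.ge (subset_closure ⟨w, ⟨t, hw.symm⟩, rfl⟩))
      refine ⟨rpt z, j.left.isClosedEmbedding.injective ?_⟩
      have e : z ≫ (v ≫ j) = t ≫ j := by rw [hv, ← Category.assoc, hz]; exact hw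
      exact (map_rpt (v ≫ j) z).trans ((congrArg rpt e).trans (map_rpt j t).symm)
    haveI : JacobsonSpace U.left := LocallyOfFiniteType.jacobsonSpace U.hom
    exact v.left.isClosedMap.isClosed_range.closure_subset_iff.2 h
      (closure_closedPoints (X := U.left) ▸ Set.mem_univ y)
  have hdim : topologicalKrullDim U.left ≤ topologicalKrullDim K.left := by
    refine (Groth.Agent.S7552.result v.left v.left.continuous v.left.surjective
      (Or.inl v.left.isClosedMap.specializingMap)).trans (le_of_eq ?_)
    rw [← (GrpField.equidimensional P').2 (η[P'].left (IsLocalRing.closedPoint k)) (Set.range c.left)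
      c.left.isOpenEmbedding.isOpen_range (hcr ▸ mem_connectedComponent)]
    exact (c.left.isOpenEmbedding.toHomeomorph.isHomeomorph.topologicalKrullDim_eq).symm
  haveI : IsClosedImmersion (c ≫ i').left := by rw [Over.comp_left]; infer_instance
  haveI : IsFinite (c ≫ v).left := by rw [Over.comp_left]; infer_instance
  haveI : QuasiCompact P'.hom := by rw [← Over.w i']; infer_instance
  haveI : QuasiCompact U.hom := by rw [← Over.w j]; infer_instance
  haveI : IsReduced U.left := SmoothRed.isReduced_of_smooth_scheme U.hom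
  haveI : Surjective (c ≫ v).left :=
    Chev.MaxTorusImage.surjective_component v c c.left.isOpenEmbedding.isOpen_range
  exact ⟨K, gK, c ≫ i', c ≫ v, inferInstance, inferInstance, inferInstance, inferInstance, inferInstance,
    inferInstance, inferInstance, fun h => haveI := h; isAffine_of_isAffineHom (c ≫ v).left, hdim⟩

/-- Solvability goes through an isogeny. -/
theorem isSolvableGrp_iff_of_isogeny {A B : Over (Spec (CommRingCat.of k))} [GrpObj A] [GrpObj B] [Smooth A.hom]
    [Smooth B.hom] [QuasiCompact A.hom] [QuasiCompact B.hom] [ConnectedSpace A.left] (g : A ⟶ B) [IsMonHom g]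
    [Surjective g.left] [IsFinite g.left] : Red.IsSolvableGrp A ↔ Red.IsSolvableGrp B := by
  constructor <;> rintro ⟨n, hn⟩
  · haveI : Group.IsSolvable (RPt A) := ⟨n, hn _⟩
    haveI : Group.IsSolvable (RPt B) := (isSolvable_iff g).1 inferInstance
    exact isSolvableGrp_of_rp B
  · haveI : Group.IsSolvable (RPt B) := ⟨n, hn _⟩
    haveI : Group.IsSolvable (RPt A) := (isSolvable_iff g).2 inferInstance
    exact isSolvableGrp_of_rp A

include f in
/-- Isogenies preserve the properties of smooth connected subgroups that they preserve on groups. -/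
theorem exists_subgroup_iff
    (P : ∀ (X : Over (Spec (CommRingCat.of k))) [GrpObj X], Prop)
    (h1 : ∀ (A B : Over (Spec (CommRingCat.of k))) [GrpObj A] [GrpObj B] [Smooth A.hom] [Smooth B.hom]
      [QuasiCompact A.hom] [QuasiCompact B.hom] [ConnectedSpace A.left] (g : A ⟶ B) [IsMonHom g]
      [Surjective g.left] [IsFinite g.left], P A → P B)
    (h2 : ∀ (A B : Over (Spec (CommRingCat.of k))) [GrpObj A] [GrpObj B] [Smooth A.hom] [Smooth B.hom]
      [QuasiCompact A.hom] [QuasiCompact B.hom] [ConnectedSpace A.left] (g : A ⟶ B) [IsMonHom g]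
      [Surjective g.left] [IsFinite g.left], P B → P A) (d : ℕ) :
    (∃ (U : Over (Spec (CommRingCat.of k))) (_ : GrpObj U) (i : U ⟶ G), IsMonHom i ∧ IsClosedImmersion i.left ∧
        Smooth U.hom ∧ ConnectedSpace U.left ∧ P U ∧ (d : WithBot ℕ∞) ≤ topologicalKrullDim U.left) ↔
    (∃ (U : Over (Spec (CommRingCat.of k))) (_ : GrpObj U) (i : U ⟶ H), IsMonHom i ∧ IsClosedImmersion i.left ∧
        Smooth U.hom ∧ ConnectedSpace U.left ∧ P U ∧ (d : WithBot ℕ∞) ≤ topologicalKrullDim U.left) := by
  constructor
  · rintro ⟨U, gU, i, hi, hcl, hs, hc, hP, hd⟩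
    haveI := hi; haveI := hcl; haveI := hs; haveI := hc
    haveI : QuasiCompact U.hom := by rw [← Over.w i]; infer_instance
    obtain ⟨C, gC, j, g, hj, hjc, hCs, hCc, hg, hgs, hgf, -, hdim⟩ := exists_isogeny_image f i
    haveI := hjc; haveI := hCs; haveI := hg; haveI := hgs; haveI := hgf
    haveI : QuasiCompact C.hom := by rw [← Over.w j]; infer_instance
    exact ⟨C, gC, j, hj, hjc, hCs, hCc, h1 U C g hP, hd.trans hdim⟩
  · rintro ⟨U, gU, i, hi, hcl, hs, hc, hP, hd⟩
    haveI := hi; haveI := hcl; haveI := hs; haveI := hc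
    haveI : QuasiCompact U.hom := by rw [← Over.w i]; infer_instance
    obtain ⟨C, gC, j, g, hj, hjc, hCs, hCc, hg, hgs, hgf, -, hdim⟩ := exists_isogeny_preimage f i
    haveI := hjc; haveI := hCs; haveI := hCc; haveI := hg; haveI := hgs; haveI := hgf
    haveI : QuasiCompact C.hom := by rw [← Over.w j]; infer_instance
    exact ⟨C, gC, j, hj, hjc, hCs, hCc, h2 C U g hP, hd.trans hdim⟩

include f in
/-- The image of a smooth connected affine solvable subgroup. -/
theorem exists_solvable_image {U : Over (Spec (CommRingCat.of k))} [GrpObj U] (i : U ⟶ G) [IsMonHom i]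
    [IsClosedImmersion i.left] [Smooth U.hom] [IsAffine U.left] [ConnectedSpace U.left] (hU : Red.IsSolvableGrp U) :
    ∃ (C : Over (Spec (CommRingCat.of k))) (_ : GrpObj C) (j : C ⟶ H), IsMonHom j ∧ IsClosedImmersion j.left ∧
      Smooth C.hom ∧ IsAffine C.left ∧ ConnectedSpace C.left ∧ Red.IsSolvableGrp C ∧
      topologicalKrullDim U.left ≤ topologicalKrullDim C.left := by
  haveI : QuasiCompact U.hom := by rw [← Over.w i]; infer_instance
  obtain ⟨C, gC, j, g, hj, hjc, hCs, hCc, hg, hgs, hgf, hCa, hdim⟩ := exists_isogeny_image f i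
  haveI := hjc; haveI := hCs; haveI := hg; haveI := hgs; haveI := hgf
  haveI : QuasiCompact C.hom := by rw [← Over.w j]; infer_instance
  exact ⟨C, gC, j, hj, hjc, hCs, hCa inferInstance, hCc, (isSolvableGrp_iff_of_isogeny g).1 hU, hdim⟩

include f in
/-- The neutral component of the preimage of a smooth connected affine solvable subgroup. -/
theorem exists_solvable_preimage {U : Over (Spec (CommRingCat.of k))} [GrpObj U] (j : U ⟶ H) [IsMonHom j]
    [IsClosedImmersion j.left] [Smooth U.hom] [IsAffine U.left] [ConnectedSpace U.left] (hU : Red.IsSolvableGrp U) :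
    ∃ (K : Over (Spec (CommRingCat.of k))) (_ : GrpObj K) (i : K ⟶ G), IsMonHom i ∧ IsClosedImmersion i.left ∧
      Smooth K.hom ∧ IsAffine K.left ∧ ConnectedSpace K.left ∧ Red.IsSolvableGrp K ∧
      topologicalKrullDim U.left ≤ topologicalKrullDim K.left := by
  haveI : QuasiCompact U.hom := by rw [← Over.w j]; infer_instance
  obtain ⟨K, gK, i, g, hi, hic, hKs, hKc, hg, hgs, hgf, hKa, hdim⟩ := exists_isogeny_preimage f j
  haveI := hic; haveI := hKs; haveI := hKc; haveI := hg; haveI := hgs; haveI := hgf
  haveI : QuasiCompact K.hom := by rw [← Over.w i]; infer_instance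
  exact ⟨K, gK, i, hi, hic, hKs, hKa inferInstance, hKc, (isSolvableGrp_iff_of_isogeny g).2 hU, hdim⟩

end Groth.Agent.SemiCont
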