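import Mathlib
import Groth.Agent.Rigid.FibreTranslate
import Groth.Agent.GrpField.RatClosure
import Groth.Agent.DvrDom.ClosedProper

/-!
# Limits of points along a valuation
-/

universe u

open CategoryTheory CategoryTheory.Limits MonoidalCategory CartesianMonoidalCategory AlgebraicGeometry TopologicalSpace

set_option backward.isDefEq.respectTransparency false

noncomputable section

namespace Groth.Agent.SemiCont

variable {V : Type u} [CommRing V] [IsDomain V] [ValuationRing V]

/-- `Spec` of a `V`-algebra as an object over `Spec V`. -/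
def ptO (V K : Type u) [CommRing V] [CommRing K] [Algebra V K] : Over (Spec (CommRingCat.of V)) :=
  Over.mk (Spec.map (CommRingCat.ofHom (algebraMap V K)))

variable {K : Type u} [Field K] [Algebra V K]

/-- The point of a point with values in a field. -/
def pnt {X : Over (Spec (CommRingCat.of V))} (a : ptO V K ⟶ X) : X.left := a.left (IsLocalRing.closedPoint K)

theorem pnt_comp {X Y : Over (Spec (CommRingCat.of V))} (a : ptO V K ⟶ X) (f : X ⟶ Y) :
    pnt (a ≫ f) = f.left (pnt a) := rfl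

theorem range_left {X : Over (Spec (CommRingCat.of V))} (a : ptO V K ⟶ X) : Set.range a.left = {pnt a} := by
  haveI : Subsingleton (ptO V K).left := inferInstanceAs (Subsingleton (PrimeSpectrum K))
  ext y
  exact ⟨fun ⟨p, hp⟩ => hp ▸ congrArg a.left (Subsingleton.elim _ _), fun h => ⟨_, h.symm⟩⟩

variable {L Ω : Type u} [Field L] [Algebra V L] [IsFractionRing V L] [Field Ω] [Algebra V Ω]

/-- A point of the generic fibre lies over the generic point. -/
theorem hom_pnt {X : Over (Spec (CommRingCat.of V))} (a : ptO V L ⟶ X) :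
    X.hom (pnt a) = (⟨⊥, Ideal.isPrime_bot⟩ : PrimeSpectrum V) := by
  rw [pnt, ← Scheme.Hom.comp_apply, Over.w a]
  apply PrimeSpectrum.ext
  show (IsLocalRing.closedPoint L).asIdeal.comap (algebraMap V L) = ⊥
  rw [show (IsLocalRing.closedPoint L).asIdeal = ⊥ from IsLocalRing.maximalIdeal_eq_bot, ← RingHom.ker_eq_comap_bot]
  exact (RingHom.injective_iff_ker_eq_bot _).1 (IsFractionRing.injective V L)

/-- A reduced scheme with a dense set of points of the generic fibre is flat. -/
theorem flat_of_dense {W : Over (Spec (CommRingCat.of V))} [IsReduced W.left] (A : Set (ptO V L ⟶ W))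
    (hA : Dense (pnt '' A)) : Flat W.hom := by
  rw [HasRingHomProperty.iff_exists_appLE (P := @Flat)
    (RingHom.Flat.stableUnderComposition.stableUnderCompositionWithLocalizationAway
      RingHom.Flat.holdsForLocalizationAway).1]
  intro x
  obtain ⟨U₀, hU₀, hxU, -⟩ := exists_isAffineOpen_mem_and_subset (U := (⊤ : W.left.Opens)) (x := x) trivial
  let U : W.left.affineOpens := ⟨U₀, hU₀⟩
  refine ⟨⟨⊤, isAffineOpen_top _⟩, U, hxU, le_top, ?_⟩
  let φ : V →+* Γ(W.left, U.1) := (W.hom.appLE ⊤ U.1 le_top).hom.comp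
    (Scheme.ΓSpecIso (CommRingCat.of V)).inv.hom
  suffices RingHom.Flat φ by
    have he : (W.hom.appLE ⊤ U.1 le_top).hom = φ.comp (Scheme.ΓSpecIso (CommRingCat.of V)).hom.hom := by
      ext x
      simp [φ]
    rw [he]
    exact RingHom.Flat.comp (RingHom.Flat.of_bijective
      (ConcreteCategory.bijective_of_isIso (Scheme.ΓSpecIso (CommRingCat.of V)).hom)) this
  algebraize [φ]
  refine (Module.Flat.flat_iff_torsion_eq_bot_of_isBezout).2 ?_
  rw [eq_bot_iff]
  intro c hc
  obtain ⟨⟨v, hv⟩, hvc⟩ := hc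
  have hv0 : v ≠ 0 := nonZeroDivisors.ne_zero hv
  have hvc' : φ v * c = 0 := hvc
  by_contra hne
  have hD : (W.left.basicOpen c : Set W.left).Nonempty := by
    rw [Set.nonempty_iff_ne_empty]
    intro h0
    exact hne (basicOpen_eq_bot_iff c |>.1 (SetLike.coe_injective (h0.trans rfl)))
  obtain ⟨_, ⟨a, -, rfl⟩, hmem⟩ := hA.exists_mem_open (W.left.basicOpen c).2 hD
  have hU : pnt a ∈ U.1 := W.left.basicOpen_le c hmem
  have hv' : pnt a ∈ W.left.basicOpen (φ v) := by
    show pnt a ∈ W.left.basicOpen (W.hom.appLE ⊤ U.1 le_top ((Scheme.ΓSpecIso (CommRingCat.of V)).inv v))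
    rw [Scheme.basicOpen_appLE]
    refine ⟨hU, ?_⟩
    show W.hom (pnt a) ∈ (Spec (CommRingCat.of V)).basicOpen ((Scheme.ΓSpecIso (CommRingCat.of V)).inv v)
    rw [hom_pnt a, basicOpen_eq_of_affine']
    refine fun h => hv0 ?_
    simpa using Ideal.mem_bot.1 h
  have h2 : pnt a ∈ W.left.basicOpen (φ v * c) := by
    rw [Scheme.basicOpen_mul]
    exact ⟨hv', hmem⟩
  rw [hvc', Scheme.basicOpen_zero] at h2
  exact h2

/-- The reduced closure of a set of points of the generic fibre. -/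
theorem exists_model {X : Over (Spec (CommRingCat.of V))} (A : Set (ptO V L ⟶ X)) :
    ∃ (W : Over (Spec (CommRingCat.of V))) (i : W ⟶ X) (A' : Set (ptO V L ⟶ W)), IsClosedImmersion i.left ∧
      IsReduced W.left ∧ Dense (pnt '' A') ∧ (· ≫ i) '' A' = A ∧ Set.range i.left = closure (pnt '' A) := by
  let C : Closeds X.left := ⟨closure (pnt '' A), isClosed_closure⟩
  let I := Scheme.IdealSheafData.vanishingIdeal C
  let W : Over (Spec (CommRingCat.of V)) := Over.mk (I.subschemeι ≫ X.hom)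
  let i : W ⟶ X := Over.homMk I.subschemeι
  have hr : Set.range i.left = closure (pnt '' A) := by
    change Set.range I.subschemeι = _
    rw [Scheme.IdealSheafData.range_subschemeι, Scheme.IdealSheafData.coe_support_vanishingIdeal]
    rfl
  haveI : IsClosedImmersion i.left := inferInstanceAs (IsClosedImmersion I.subschemeι)
  haveI : IsReduced W.left := DvrDom.isReduced_vanishingIdeal_subscheme C
  haveI : IsReduced (ptO V L).left := inferInstanceAs (IsReduced (Spec (CommRingCat.of L)))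
  have hlift : ∀ a ∈ A, ∃ l : ptO V L ⟶ W, l ≫ i = a := fun a ha => by
    have hk : i.left.ker ≤ a.left.ker := by
      change I.subschemeι.ker ≤ _
      rw [Scheme.IdealSheafData.ker_subschemeι]
      refine RedKer.vanishingIdeal_le_ker a.left C ?_
      rw [range_left]
      exact Set.singleton_subset_iff.2 (subset_closure ⟨a, ha, rfl⟩)
    refine ⟨Over.homMk (IsClosedImmersion.lift i.left a.left hk) ?_, ?_⟩
    · rw [← Over.w i, IsClosedImmersion.lift_fac_assoc, Over.w]
    · ext1; exact IsClosedImmersion.lift_fac _ _ _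
  refine ⟨W, i, (· ≫ i) ⁻¹' A, inferInstance, inferInstance, ?_, ?_, hr⟩
  · rw [i.left.isEmbedding.isInducing.dense_iff]
    intro w
    refine closure_mono ?_ (hr ▸ Set.mem_range_self w : i.left w ∈ closure (pnt '' A))
    rintro _ ⟨a, ha, rfl⟩
    obtain ⟨l, hl⟩ := hlift a ha
    exact ⟨pnt l, ⟨l, by show l ≫ i ∈ A; rw [hl]; exact ha, rfl⟩, (pnt_comp l i).symm.trans (congrArg pnt hl)⟩
  · ext a
    exact ⟨fun ⟨l, hl, e⟩ => e ▸ hl, fun ha => (hlift a ha).imp fun l (hl : l ≫ i = a) => ⟨show l ≫ i ∈ A from hl.symm ▸ ha, hl⟩⟩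

/-- A dense set of points of the generic fibre meets every open of the base change to `L`. -/
theorem exists_mem_of_dense {W Z : Over (Spec (CommRingCat.of V))} {A : Set (ptO V L ⟶ W)}
    (hA : Dense (pnt '' A)) (g : W ⊗ ptO V L ⟶ Z) {U : Set Z.left} (hU : IsOpen U)
    (a₀ : ptO V L ⟶ W) (h₀ : pnt (lift a₀ (𝟙 _) ≫ g) ∈ U) :
    ∃ a ∈ A, pnt (lift a (𝟙 _) ≫ g) ∈ U := by
  haveI : IsPreimmersion (Spec.map (CommRingCat.ofHom (algebraMap V L))) :=
    IsPreimmersion.of_isLocalization (R := V) (S := L) (nonZeroDivisors V)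
  haveI : IsPreimmersion (fst W (ptO V L)).left := by
    rw [Over.fst_left]
    exact MorphismProperty.pullback_fst _ _ ‹IsPreimmersion (Spec.map (CommRingCat.ofHom (algebraMap V L)))›
  obtain ⟨O, hO, hOe⟩ := (fst W (ptO V L)).left.isEmbedding.isInducing.isOpen_iff.1 (hU.preimage g.left.continuous)
  have key : ∀ a : ptO V L ⟶ W, pnt (lift a (𝟙 _) ≫ g) ∈ U ↔ pnt a ∈ O := fun a => by
    have h : (fst W (ptO V L)).left (pnt (lift a (𝟙 _))) = pnt a := by rw [← pnt_comp, lift_fst]
    rw [← h, ← Set.mem_preimage (s := O), hOe, Set.mem_preimage, pnt_comp]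
  obtain ⟨_, ⟨a, ha, rfl⟩, haO⟩ := hA.exists_mem_open hO ⟨_, (key a₀).1 h₀⟩
  exact ⟨a, ha, (key a).2 haO⟩

/-- Pairs of dense sets of points are dense in a product of flat schemes. -/
theorem dense_pairs [IsAlgClosed L] {W W' : Over (Spec (CommRingCat.of V))} [IsReduced W.left] [IsReduced W'.left]
    [LocallyOfFiniteType W.hom] [LocallyOfFiniteType W'.hom] {A : Set (ptO V L ⟶ W)} {B : Set (ptO V L ⟶ W')}
    (hA : Dense (pnt '' A)) (hB : Dense (pnt '' B)) :
    Dense (pnt '' Set.image2 (fun a b => lift a b) A B) := by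
  haveI := flat_of_dense A hA
  haveI := flat_of_dense B hB
  rw [dense_iff_inter_open]
  rintro U hU ⟨z, hz⟩
  let P := W ⊗ W'
  haveI : Flat P.hom := by
    rw [Over.tensorObj_hom]; infer_instance
  haveI : LocallyOfFiniteType P.hom := by
    rw [Over.tensorObj_hom]; infer_instance
  let η : Spec (CommRingCat.of V) := (⟨⊥, Ideal.isPrime_bot⟩ : PrimeSpectrum V)
  have hη : η ⤳ P.hom z := (PrimeSpectrum.le_iff_specializes _ _).1 bot_le
  obtain ⟨z', hz', hz'η⟩ := Flat.generalizingMap (f := P.hom) hη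
  let π := Spec.map (CommRingCat.ofHom (algebraMap V L))
  obtain ⟨r, hr, -⟩ := Scheme.Pullback.exists_preimage_pullback z' (IsLocalRing.closedPoint L)
    (f := P.hom) (g := π) (by
      rw [hz'η]
      apply PrimeSpectrum.ext
      show ⊥ = (IsLocalRing.closedPoint L).asIdeal.comap (algebraMap V L)
      rw [show (IsLocalRing.closedPoint L).asIdeal = ⊥ from IsLocalRing.maximalIdeal_eq_bot,
        ← RingHom.ker_eq_comap_bot]
      exact ((RingHom.injective_iff_ker_eq_bot _).1 (IsFractionRing.injective V L)).symm)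
  haveI : JacobsonSpace ↥(pullback P.hom π) := LocallyOfFiniteType.jacobsonSpace (pullback.snd P.hom π)
  obtain ⟨q, hq, hqc⟩ := nonempty_inter_closedPoints (Z := (pullback.fst P.hom π) ⁻¹' U)
    ⟨r, show pullback.fst P.hom π r ∈ U by rw [hr]; exact hz'.mem_open hU hz⟩
    (hU.preimage (pullback.fst P.hom π).continuous).isLocallyClosed
  let c : ptO V L ⟶ P := Over.homMk (pointOfClosedPoint (pullback.snd P.hom π) q hqc ≫ pullback.fst P.hom π) (by
    show (_ ≫ _) ≫ P.hom = π
    rw [Category.assoc, pullback.condition, ← Category.assoc, pointOfClosedPoint_comp, Category.id_comp])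
  have hc : pnt c ∈ U := by
    show pullback.fst P.hom π (pointOfClosedPoint (pullback.snd P.hom π) q hqc _) ∈ U
    rw [pointOfClosedPoint_apply]
    exact hq
  have e : ∀ (a : ptO V L ⟶ W) (b : ptO V L ⟶ W'),
      lift a (𝟙 _) ≫ lift (fst _ _) (snd _ _ ≫ b) = lift a b := fun a b => by ext <;> simp
  have e' : ∀ (a : ptO V L ⟶ W) (b : ptO V L ⟶ W'),
      lift b (𝟙 _) ≫ lift (snd _ _ ≫ a) (fst _ _) = lift a b := fun a b => by ext <;> simp
  have hc' : lift (c ≫ fst W W') (c ≫ snd W W') = c := by ext <;> simp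
  obtain ⟨a, ha, haU⟩ := exists_mem_of_dense hA (lift (fst W (ptO V L)) (snd _ _ ≫ c ≫ snd W W')) hU
    (c ≫ fst W W') (by rw [e, hc']; exact hc)
  rw [e] at haU
  obtain ⟨b, hb, hbU⟩ := exists_mem_of_dense hB (lift (snd W' (ptO V L) ≫ a) (fst _ _)) hU
    (c ≫ snd W W') (by rw [e']; exact haU)
  rw [e'] at hbU
  exact ⟨_, hbU, _, ⟨a, ha, b, hb, rfl⟩, rfl⟩

/-- The points of the special fibre in the closure of a set of points of the generic fibre. -/
def Cl (Ω : Type u) [Field Ω] [Algebra V Ω] {X : Over (Spec (CommRingCat.of V))} (A : Set (ptO V L ⟶ X)) :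
    Set (ptO V Ω ⟶ X) :=
  {x | pnt x ∈ closure (pnt '' A)}

theorem Cl_mono {X : Over (Spec (CommRingCat.of V))} {A B : Set (ptO V L ⟶ X)} (h : A ⊆ B) :
    Cl Ω A ⊆ Cl Ω B :=
  fun _ hx => closure_mono (Set.image_mono h) hx

theorem Cl_comp {X Y : Over (Spec (CommRingCat.of V))} {A : Set (ptO V L ⟶ X)} (f : X ⟶ Y) {x : ptO V Ω ⟶ X}
    (hx : x ∈ Cl Ω A) : x ≫ f ∈ Cl Ω ((· ≫ f) '' A) := by
  show f.left (pnt x) ∈ closure (pnt '' ((· ≫ f) '' A))
  refine closure_mono ?_ (mem_closure_image f.left.continuous.continuousAt hx)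
  rintro _ ⟨_, ⟨a, ha, rfl⟩, rfl⟩
  exact ⟨a ≫ f, ⟨a, ha, rfl⟩, rfl⟩

/-- Limits of pairs. -/
theorem Cl_lift [IsAlgClosed L] {X Y : Over (Spec (CommRingCat.of V))} [LocallyOfFiniteType X.hom]
    [LocallyOfFiniteType Y.hom] {A : Set (ptO V L ⟶ X)} {B : Set (ptO V L ⟶ Y)}
    {x : ptO V Ω ⟶ X} {y : ptO V Ω ⟶ Y} (hx : x ∈ Cl Ω A) (hy : y ∈ Cl Ω B) :
    lift x y ∈ Cl Ω (Set.image2 (fun a b => lift a b) A B) := by
  obtain ⟨W, i, A', hi, hW, hA', hA, hr⟩ := exists_model A
  obtain ⟨W', i', B', hi', hW', hB', hB, hr'⟩ := exists_model B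
  haveI : LocallyOfFiniteType W.hom := by rw [← Over.w i]; infer_instance
  haveI : LocallyOfFiniteType W'.hom := by rw [← Over.w i']; infer_instance
  haveI : IsReduced (ptO V Ω).left := inferInstanceAs (IsReduced (Spec (CommRingCat.of Ω)))
  have lft : ∀ {X W : Over (Spec (CommRingCat.of V))} (i : W ⟶ X) [IsClosedImmersion i.left] [IsReduced W.left]
      (x : ptO V Ω ⟶ X), pnt x ∈ Set.range i.left → ∃ l, l ≫ i = x := by
    intro X W i _ _ x hx
    have hk : i.left.ker ≤ x.left.ker := by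
      have := RedKer.vanishingIdeal_le_ker x.left ⟨Set.range i.left, i.left.isClosedEmbedding.isClosed_range⟩
        (by rw [range_left]; exact Set.singleton_subset_iff.2 hx)
      refine le_trans ?_ this
      rw [← Scheme.IdealSheafData.le_support_iff_le_vanishingIdeal]
      exact fun z hz => Scheme.Hom.range_subset_ker_support i.left hz
    refine ⟨Over.homMk (IsClosedImmersion.lift i.left x.left hk) ?_, ?_⟩
    · rw [← Over.w i, IsClosedImmersion.lift_fac_assoc, Over.w]
    · ext1; exact IsClosedImmersion.lift_fac _ _ _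
  obtain ⟨l, rfl⟩ := lft i x (hr.ge hx)
  obtain ⟨l', rfl⟩ := lft i' y (hr'.ge hy)
  have h : lift l l' ∈ Cl Ω (Set.image2 (fun a b => lift a b) A' B') :=
    (dense_pairs hA' hB').closure_eq.ge trivial
  have h2 := Cl_comp (i ⊗ₘ i') h
  rw [lift_map] at h2
  refine Cl_mono ?_ h2
  rintro _ ⟨_, ⟨a, ha, b, hb, rfl⟩, rfl⟩
  exact ⟨a ≫ i, hA ▸ ⟨a, ha, rfl⟩, b ≫ i', hB ▸ ⟨b, hb, rfl⟩, (lift_map _ _ _ _).symm⟩

end Groth.Agent.SemiCont
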