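import Groth.Agent.Chev.BorelTools
import Groth.Agent.Chev.NilpTori

/-!
# Finite sets of commutators in connected groups
-/

universe u

open CategoryTheory CategoryTheory.Limits MonoidalCategory CartesianMonoidalCategory MonObj GrpObj AlgebraicGeometry
open Groth.Agent.SubGen (rpt exists_rpt rpt_injective rpt_mem_closedPoints map_rpt)

set_option backward.isDefEq.respectTransparency false

noncomputable section

namespace Groth.Agent.SemiCont

variable {k : Type u} [Field k] [IsAlgClosed k]

local notation "RPt" K:max => (𝟙_ (Over (Spec (CommRingCat.of k))) ⟶ K)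

/-- A morphism from a connected scheme taking finitely many values is constant. -/
theorem constant_of_finite {K X : Over (Spec (CommRingCat.of k))} [LocallyOfFiniteType K.hom]
    [LocallyOfFiniteType X.hom] [ConnectedSpace K.left] (f : K ⟶ X) {F : Set (RPt X)} (hF : F.Finite)
    (hf : ∀ x : RPt K, x ≫ f ∈ F) (x y : RPt K) : x ≫ f = y ≫ f := by
  haveI : JacobsonSpace K.left := LocallyOfFiniteType.jacobsonSpace K.hom
  have hc : ∀ z : RPt X, IsClosed (f.left ⁻¹' {rpt z}) := fun z =>
    (mem_closedPoints_iff.1 (rpt_mem_closedPoints z)).preimage f.left.continuous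
  let A := f.left ⁻¹' {rpt (x ≫ f)}
  let B := ⋃ z ∈ F \ {x ≫ f}, f.left ⁻¹' {rpt z}
  have hA : IsClosed A := hc _
  have hB : IsClosed B := (hF.subset Set.diff_subset).isClosed_biUnion fun z _ => hc z
  have hAB : A ∪ B = Set.univ := by
    refine Set.univ_subset_iff.1 ?_
    rw [← JacobsonSpace.closure_inter_closedPoints (isClosed_univ (X := K.left))]
    refine (hA.union hB).closure_subset_iff.2 ?_
    rintro w ⟨-, hw⟩
    obtain ⟨q, rfl⟩ := exists_rpt hw
    by_cases h : q ≫ f = x ≫ f
    · exact Or.inl (show f.left (rpt q) = rpt (x ≫ f) by rw [map_rpt, h])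
    · exact Or.inr (Set.mem_biUnion (x := q ≫ f) ⟨hf q, h⟩ (map_rpt f q))
  have hdisj : Disjoint A B := by
    rw [Set.disjoint_left]
    intro w hwA hwB
    obtain ⟨z, hz, hwz⟩ := Set.mem_iUnion₂.1 hwB
    exact hz.2 (rpt_injective ((Eq.symm hwz).trans hwA))
  have hAo : IsOpen A := by
    have : A = Bᶜ := Set.Subset.antisymm (fun w hw => hdisj.notMem_of_mem_left hw) (fun w hw => (hAB.ge trivial).resolve_right hw)
    rw [this]; exact hB.isOpen_compl
  have hA1 : A = Set.univ := IsClopen.eq_univ ⟨hA, hAo⟩ ⟨rpt x, map_rpt f x⟩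
  exact (rpt_injective ((map_rpt f y).symm.trans (hA1.ge (Set.mem_univ (rpt y)) : f.left (rpt y) = rpt (x ≫ f)))).symm

variable {K : Over (Spec (CommRingCat.of k))} [GrpObj K] [LocallyOfFiniteType K.hom] [ConnectedSpace K.left]

/-- An element with finitely many commutators is central. -/
theorem mem_center_of_finite (z : RPt K) {F : Set (RPt K)} (hF : F.Finite)
    (hz : ∀ x : RPt K, x * z * x⁻¹ * z⁻¹ ∈ F) : z ∈ Subgroup.center (RPt K) := by
  let c : RPt K → (K ⟶ K) := fun w => toUnit K ≫ w
  have hv : ∀ x w : RPt K, x ≫ c w = w := fun x w => Chev.Borel.rp_const x w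
  have he : ∀ x : RPt K, x ≫ (𝟙 K * c z * (𝟙 K)⁻¹ * (c z)⁻¹) = x * z * x⁻¹ * z⁻¹ := fun x => by
    simp only [MonObj.comp_mul, GrpObj.comp_inv, hv, Category.comp_id]
  rw [Subgroup.mem_center_iff]
  intro x
  have h := constant_of_finite (𝟙 K * c z * (𝟙 K)⁻¹ * (c z)⁻¹) hF (fun x => (he x).symm ▸ hz x) x 1
  rw [he, he, _root_.one_mul, inv_one, _root_.mul_one, mul_inv_cancel] at h
  exact commutatorElement_eq_one_iff_mul_comm.1 (by rw [commutatorElement_def]; exact h)

/-- Finite derived subgroups. -/
theorem isSolvable_of_finite {n : ℕ} (hF : (derivedSeries (RPt K) n : Set (RPt K)).Finite) :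
    Group.IsSolvable (RPt K) := by
  haveI := derivedSeries_normal (RPt K) n
  have hc : derivedSeries (RPt K) n ≤ Subgroup.center (RPt K) := fun z hz =>
    mem_center_of_finite z hF fun x => mul_mem (Subgroup.Normal.conj_mem inferInstance z hz x) (inv_mem hz)
  refine ⟨⟨n + 1, ?_⟩⟩
  rw [derivedSeries_succ, Subgroup.commutator_eq_bot_iff_le_centralizer]
  exact hc.trans (Subgroup.center_le_centralizer _)

/-- Finite terms of the lower central series. -/
theorem isNilpotent_of_finite {n : ℕ}
    (hF : (Subgroup.lowerCentralSeries (⊤ : Subgroup (RPt K)) n : Set (RPt K)).Finite) :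
    Group.IsNilpotent (RPt K) := by
  have hc : Subgroup.lowerCentralSeries (⊤ : Subgroup (RPt K)) n ≤ Subgroup.center (RPt K) := fun z hz =>
    mem_center_of_finite z hF fun x => mul_mem (Subgroup.Normal.conj_mem inferInstance z hz x) (inv_mem hz)
  refine Subgroup.nilpotent_iff_lowerCentralSeries.2 ⟨n + 1, ?_⟩
  rw [Subgroup.lowerCentralSeries_succ, Subgroup.commutator_eq_bot_iff_le_centralizer]
  exact hc.trans (Subgroup.center_le_centralizer _)

/-- Finitely many commutators. -/
theorem commute_of_finite (hF : (derivedSeries (RPt K) 1 : Set (RPt K)).Finite) (x y : RPt K) : x * y = y * x := by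
  refine Subgroup.mem_center_iff.1 (mem_center_of_finite y hF fun z => ?_) x
  rw [← commutatorElement_def, derivedSeries_succ, derivedSeries_zero]
  exact Subgroup.commutator_mem_commutator trivial trivial

omit [LocallyOfFiniteType K.hom] [ConnectedSpace K.left] in
/-- Commutativity can be tested on rational points. -/
theorem isCommMonObj_of_rp [Smooth K.hom] [QuasiCompact K.hom] (h : ∀ x y : RPt K, x * y = y * x) :
    IsCommMonObj K := by
  have h1 : derivedSeries (RPt K) 1 = ⊥ := by
    rw [derivedSeries_succ, derivedSeries_zero, Subgroup.commutator_eq_bot_iff_le_centralizer]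
    intro x _ y _
    exact h y x
  let i := SubGen.ptIso k
  let e : (RPt K) →* (SubGen.ptL k k ⟶ K) :=
    { toFun := fun x => i.inv ≫ x
      map_one' := MonObj.comp_one _
      map_mul' := fun x y => MonObj.comp_mul _ x y }
  have hs : Function.Surjective e := fun y => ⟨i.hom ≫ y, i.inv_hom_id_assoc y⟩
  have h2 : derivedSeries (SubGen.ptL k k ⟶ K) 1 = ⊥ := by
    rw [← map_derivedSeries_eq hs 1, h1, Subgroup.map_bot]
  have h3 := (Groth.Agent.S5366.result k K k 1).1.2 h2 (K ⊗ K)
  rw [derivedSeries_succ, derivedSeries_zero, Subgroup.commutator_eq_bot_iff_le_centralizer] at h3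
  constructor
  have hc : fst K K * snd K K = snd K K * fst K K := (h3 trivial _ trivial).symm
  rw [Hom.mul_def, Hom.mul_def, lift_fst_snd, Category.id_comp] at hc
  calc (β_ K K).hom ≫ μ[K] = lift (snd K K) (fst K K) ≫ μ[K] := by
        congr 1
    _ = μ[K] := hc.symm

end Groth.Agent.SemiCont
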