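import Mathlib.RingTheory.NoetherNormalization
import Mathlib.RingTheory.Valuation.ValuationRing
import Mathlib.RingTheory.Flat.TorsionFree
import Groth.Agent.Unibranch.Noether
import Groth.Agent.DimFormula.Field

/-!
# The dimension of the special fibre over a valuation ring
-/

universe u

open TensorProduct MvPolynomial

noncomputable section

namespace Groth.Agent.SemiCont

/-- Independent elements bound the dimension from below. -/
theorem natCast_le_ringKrullDim {F B : Type u} [Field F] [CommRing B] [Algebra F B] [Algebra.FiniteType F B]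
    {e : ℕ} (g : MvPolynomial (Fin e) F →ₐ[F] B) (hg : Function.Injective g) :
    (e : WithBot ℕ∞) ≤ ringKrullDim B := by
  obtain ⟨q, hq, hqc⟩ := Ideal.exists_minimalPrimes_comap_eq g.toRingHom (⊥ : Ideal (MvPolynomial (Fin e) F)) (by
    rw [show Ideal.comap g.toRingHom (⊥ : Ideal B) = ⊥ from (RingHom.injective_iff_ker_eq_bot _).1 hg]
    exact ⟨⟨Ideal.isPrime_bot, le_rfl⟩, fun _ h _ => bot_le⟩)
  haveI : q.IsPrime := hq.1.1
  obtain ⟨s, htr, hdim⟩ := DimFormula.exists_trdeg_eq_ringKrullDim F (B ⧸ q)
  have hinj : Function.Injective ((Ideal.Quotient.mkₐ F q).comp g) := by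
    rw [injective_iff_map_eq_zero]
    intro P hP
    have : P ∈ Ideal.comap g.toRingHom q := (Ideal.Quotient.eq_zero_iff_mem (I := q)).1 hP
    rwa [hqc, Ideal.mem_bot] at this
  have hind : AlgebraicIndependent F fun i => Ideal.Quotient.mkₐ F q (g (X i)) :=
    (MvPolynomial.algebraicIndependent_X (Fin e) F).map' (f := (Ideal.Quotient.mkₐ F q).comp g) hinj
  have hle : e ≤ s := by
    have h := hind.lift_cardinalMk_le_trdeg
    rw [htr] at h
    simpa using h
  calc (e : WithBot ℕ∞) ≤ (s : WithBot ℕ∞) := by exact_mod_cast hle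
    _ = ringKrullDim (B ⧸ q) := hdim.symm
    _ ≤ ringKrullDim B := ringKrullDim_quotient_le q

/-- For a torsion-free algebra over a valuation ring the special fibre is at most as large as the generic one. -/
theorem ringKrullDim_special_le {V A : Type u} [CommRing V] [IsDomain V] [ValuationRing V] [CommRing A] [Algebra V A]
    [Algebra.FiniteType V A] [Module.Flat V A] (L Ω : Type u) [Field L] [Algebra V L] [IsFractionRing V L]
    [Field Ω] [Algebra V Ω] (hb : Function.Surjective (algebraMap V Ω)) :
    ringKrullDim (Ω ⊗[V] A) ≤ ringKrullDim (L ⊗[V] A) := by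
  classical
  rcases subsingleton_or_nontrivial (Ω ⊗[V] A) with h | h
  · rw [ringKrullDim_eq_bot_of_subsingleton]; exact bot_le
  obtain ⟨s, g, hgi, hgf⟩ := exists_finite_inj_algHom_of_fg Ω (Ω ⊗[V] A)
  rw [Unibranch.ringKrullDim_eq_of_finite_inj g hgi hgf]
  have hsur : Function.Surjective (Algebra.TensorProduct.includeRight : A →ₐ[V] Ω ⊗[V] A) := by
    intro z
    induction z using TensorProduct.induction_on with
    | zero => exact ⟨0, map_zero _⟩
    | tmul x a =>
      obtain ⟨v, rfl⟩ := hb x
      exact ⟨v • a, by rw [Algebra.TensorProduct.includeRight_apply, tmul_smul, smul_tmul', Algebra.algebraMap_eq_smul_one]⟩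
    | add x y hx hy =>
      obtain ⟨a, rfl⟩ := hx; obtain ⟨b, rfl⟩ := hy
      exact ⟨a + b, map_add _ _ _⟩
  choose t ht using fun i : Fin s => hsur (g (X i))
  refine natCast_le_ringKrullDim (aeval (R := L) fun i => (1 : L) ⊗ₜ[V] t i) ?_
  rw [injective_iff_map_eq_zero]
  intro Q hQ
  obtain ⟨c, hc⟩ := IsLocalization.exist_integer_multiples (nonZeroDivisors V) Q.support fun m => Q.coeff m
  choose a ha using hc
  -- clear denominators
  let P : MvPolynomial (Fin s) V := ∑ m ∈ Q.support.attach, monomial m.1 (a m.1 m.2)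
  have hP : MvPolynomial.map (algebraMap V L) P = algebraMap V L c • Q := by
    conv_rhs => rw [Q.as_sum, Finset.smul_sum, ← Finset.sum_attach]
    rw [map_sum]
    refine Finset.sum_congr rfl fun m _ => ?_
    rw [map_monomial, smul_monomial, smul_eq_mul, ha, Algebra.smul_def]
  have hP0 : aeval t P = 0 := by
    have h1 : (Algebra.TensorProduct.includeRight : A →ₐ[V] L ⊗[V] A) (aeval t P) = 0 := by
      have h2 : aeval (fun i => (1 : L) ⊗ₜ[V] t i) (MvPolynomial.map (algebraMap V L) P) = 0 := by
        rw [hP, map_smul, hQ, smul_zero]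
      rw [aeval_map_algebraMap] at h2
      rw [comp_aeval_apply]
      exact h2
    exact Algebra.TensorProduct.includeRight_injective (IsFractionRing.injective V L) (h1.trans (map_zero _).symm)
  by_contra hQ0
  have hPne : P ≠ 0 := fun h => by
    rw [h, map_zero] at hP
    rcases smul_eq_zero.1 hP.symm with h' | h'
    · exact nonZeroDivisors.ne_zero c.2 (IsFractionRing.injective V L (h'.trans (map_zero _).symm))
    · exact hQ0 h'
  -- scale to a unit coefficient
  obtain ⟨m₀, hm₀, hmax⟩ : ∃ m₀ ∈ P.support, ∀ m ∈ P.support, P.coeff m₀ ∣ P.coeff m := by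
    obtain ⟨m₀, hm₀, hmax⟩ := Finset.exists_max_image P.support
      (fun m => ValuationRing.valuation V L (algebraMap V L (P.coeff m))) (support_nonempty.2 hPne)
    refine ⟨m₀, hm₀, fun m hm => ?_⟩
    obtain ⟨d, hd⟩ : ∃ d : V, algebraMap V L d = algebraMap V L (P.coeff m) / algebraMap V L (P.coeff m₀) := by
      refine (ValuationRing.mem_integer_iff V L _).mp ?_
      rw [Valuation.mem_integer_iff, map_div₀]
      refine div_le_one_of_le₀ (hmax m hm) zero_le'
    refine ⟨d, IsFractionRing.injective V L ?_⟩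
    rw [map_mul, hd, mul_div_cancel₀]
    exact fun h0 => mem_support_iff.1 hm₀ (IsFractionRing.injective V L (h0.trans (map_zero _).symm))
  choose d hd using hmax
  let P₁ : MvPolynomial (Fin s) V := ∑ m ∈ P.support.attach, monomial m.1 (d m.1 m.2)
  have hPP : P = C (P.coeff m₀) * P₁ := by
    conv_lhs => rw [P.as_sum, ← Finset.sum_attach]
    rw [Finset.mul_sum]
    refine Finset.sum_congr rfl fun m _ => ?_
    rw [C_mul_monomial, ← hd]
  have hc0 : P.coeff m₀ ≠ 0 := mem_support_iff.1 hm₀
  have h1 : aeval t P₁ = 0 := by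
    have : P.coeff m₀ • aeval t P₁ = 0 := by
      rw [← map_smul, smul_eq_C_mul, ← hPP, hP0]
    exact (smul_eq_zero.1 this).resolve_left hc0
  have h2 : g (MvPolynomial.map (algebraMap V Ω) P₁) = 0 := by
    have e : (g.restrictScalars V).comp (MvPolynomial.mapAlgHom (Algebra.ofId V Ω)) =
        (Algebra.TensorProduct.includeRight : A →ₐ[V] Ω ⊗[V] A).comp (aeval t) := by
      refine MvPolynomial.algHom_ext fun i => ?_
      simp [ht]
    exact (DFunLike.congr_fun e P₁).trans (by rw [AlgHom.comp_apply, h1, map_zero])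
  have h3 := congrArg (coeff m₀) (hgi (h2.trans (map_zero g).symm))
  rw [coeff_map, coeff_zero] at h3
  have hd0 : P₁.coeff m₀ = 1 := by
    have := congrArg (coeff m₀) hPP
    rw [coeff_C_mul] at this
    exact (mul_eq_left₀ hc0).1 this.symm
  rw [hd0, map_one] at h3
  exact one_ne_zero h3

end Groth.Agent.SemiCont
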