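import Groth.Agent.SemiCont.Main
import Groth.Agent.SemiCont.DimSpec
import Groth.Agent.GrpAct.PointAlg

/-!
# The derived group specialises
-/

universe u

open CategoryTheory CategoryTheory.Limits MonoidalCategory CartesianMonoidalCategory MonObj GrpObj AlgebraicGeometry TopologicalSpace
open Groth.Agent.SubGen (rpt exists_rpt rpt_injective rpt_mem_closedPoints map_rpt)
open scoped TensorProduct

set_option backward.isDefEq.respectTransparency false
set_option synthInstance.maxHeartbeats 400000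
set_option maxHeartbeats 2000000

noncomputable section

namespace Groth.Agent.SemiCont

variable {S : Scheme.{u}} (G : Over S) [GrpObj G] [LocallyOfFiniteType G.hom] {V : Type u} [CommRing V] [IsDomain V]
  [ValuationRing V] (g : Spec (CommRingCat.of V) ⟶ S)
  (L : Type u) [Field L] [IsAlgClosed L] [Algebra V L] [IsFractionRing V L]
  {Ω : Type u} [Field Ω] [IsAlgClosed Ω] [Algebra V Ω]

/-- All points of the special fibre of a flat group are limits. -/
theorem mem_closure_all [Flat G.hom] (p : (Red.bc g G).left) :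
    p ∈ closure (pnt '' (Set.univ : Set (ptO V L ⟶ Red.bc g G))) := by
  let X := Red.bc g G
  haveI : Flat X.hom := inferInstanceAs (Flat (pullback.snd G.hom g))
  haveI : LocallyOfFiniteType (Red.bc (Spec.map (CommRingCat.ofHom (algebraMap V L)) ≫ g) G).hom :=
    inferInstanceAs (LocallyOfFiniteType (pullback.snd G.hom (Spec.map (CommRingCat.ofHom (algebraMap V L)) ≫ g)))
  haveI : JacobsonSpace (Red.bc (Spec.map (CommRingCat.ofHom (algebraMap V L)) ≫ g) G).left :=
    LocallyOfFiniteType.jacobsonSpace (Red.bc (Spec.map (CommRingCat.ofHom (algebraMap V L)) ≫ g) G).hom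
  let ηV : Spec (CommRingCat.of V) := (⟨⊥, Ideal.isPrime_bot⟩ : PrimeSpectrum V)
  obtain ⟨p', hp', hp'η⟩ := Flat.generalizingMap (f := X.hom)
    ((PrimeSpectrum.le_iff_specializes _ _).1 bot_le : ηV ⤳ X.hom p)
  refine hp'.mem_closed isClosed_closure ?_
  obtain ⟨q, hq, -⟩ := Scheme.exists_preimage_of_isPullback (isPullback_proj G g L) p' (IsLocalRing.closedPoint L) (by
    refine hp'η.trans ?_
    apply PrimeSpectrum.ext
    show ⊥ = Ideal.comap (algebraMap V L) _
    rw [show (IsLocalRing.closedPoint L).asIdeal = ⊥ from IsLocalRing.maximalIdeal_eq_bot,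
      ← RingHom.ker_eq_comap_bot]
    exact ((RingHom.injective_iff_ker_eq_bot _).1 (IsFractionRing.injective V L)).symm)
  rw [← hq]
  refine closure_mono ?_ (mem_closure_image (proj G g L).continuous.continuousAt
    (show q ∈ closure (closedPoints _) from (closure_closedPoints (X := (Red.bc (Spec.map (CommRingCat.ofHom (algebraMap V L)) ≫ g) G).left)).symm ▸ Set.mem_univ q))
  rintro _ ⟨w, hw, rfl⟩
  obtain ⟨z, rfl⟩ := exists_rpt hw
  exact ⟨ptE G g L z, trivial, pnt_ptE G g L z⟩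

variable {L}

/-- Sections over an affine open as an algebra over the base. -/
@[reducible] def secAlg {Y : Over (Spec (CommRingCat.of V))} (U : Y.left.affineOpens) : Algebra V Γ(Y.left, U.1) :=
  ((Y.hom.appLE ⊤ U.1 le_top).hom.comp (Scheme.ΓSpecIso (CommRingCat.of V)).inv.hom).toAlgebra

omit [IsDomain V] [ValuationRing V] in
theorem secAlg_finiteType {Y : Over (Spec (CommRingCat.of V))} [LocallyOfFiniteType Y.hom] (U : Y.left.affineOpens) :
    letI := secAlg U; Algebra.FiniteType V Γ(Y.left, U.1) :=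
  RingHom.FiniteType.comp (Scheme.Hom.finiteType_appLE Y.hom (isAffineOpen_top _) U.2 le_top)
    (RingHom.FiniteType.of_surjective _
      (ConcreteCategory.bijective_of_isIso (Scheme.ΓSpecIso (CommRingCat.of V)).inv).2)

omit [IsDomain V] [ValuationRing V] in
theorem secAlg_flat {Y : Over (Spec (CommRingCat.of V))} [Flat Y.hom] (U : Y.left.affineOpens) :
    letI := secAlg U; Module.Flat V Γ(Y.left, U.1) :=
  RingHom.Flat.comp (RingHom.Flat.of_bijective
    (ConcreteCategory.bijective_of_isIso (Scheme.ΓSpecIso (CommRingCat.of V)).inv))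
    (Flat.flat_appLE Y.hom (isAffineOpen_top _) U.2 (e := le_top))

omit [IsDomain V] [ValuationRing V] in
theorem range_comp_surjective {A B C : Scheme.{u}} (a : A ⟶ B) (b : B ⟶ C) [Surjective a] :
    Set.range (a ≫ b) = Set.range b := by
  ext y
  constructor
  · rintro ⟨w, hw⟩; exact ⟨a w, hw⟩
  · rintro ⟨w, hw⟩
    obtain ⟨v, rfl⟩ := a.surjective w
    exact ⟨v, hw⟩

omit [IsDomain V] [ValuationRing V] in
/-- An affine open of the model, after base change. -/
theorem exists_chart {Y : Over (Spec (CommRingCat.of V))} (U : Y.left.affineOpens) (K : Type u) [Field K] [Algebra V K] :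
    letI := secAlg U
    ∃ m : Spec (CommRingCat.of (K ⊗[V] Γ(Y.left, U.1))) ⟶ pullback Y.hom (Spec.map (CommRingCat.ofHom (algebraMap V K))),
      IsOpenImmersion m ∧ Set.range m = pullback.fst Y.hom _ ⁻¹' U.1 := by
  letI := secAlg U
  have hφ : Spec.map (CommRingCat.ofHom (algebraMap V Γ(Y.left, U.1))) = U.2.fromSpec ≫ Y.hom := by
    rw [show CommRingCat.ofHom (algebraMap V Γ(Y.left, U.1)) =
        (Scheme.ΓSpecIso (CommRingCat.of V)).inv ≫ Y.hom.appLE ⊤ U.1 le_top from rfl,
      Spec.map_comp, ← IsAffineOpen.SpecMap_appLE_fromSpec Y.hom (isAffineOpen_top _) U.2 le_top]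
    congr 1
    rw [IsAffineOpen.fromSpec_top, Scheme.isoSpec_Spec_inv]
  let π := Spec.map (CommRingCat.ofHom (algebraMap V K))
  let e : Spec (CommRingCat.of (Γ(Y.left, U.1) ⊗[V] K)) ≅ pullback (U.2.fromSpec ≫ Y.hom) π :=
    (pullbackSpecIso V Γ(Y.left, U.1) K).symm ≪≫ pullback.congrHom hφ rfl
  let c := (Spec.map ((Algebra.TensorProduct.comm V Γ(Y.left, U.1) K).toRingEquiv.toCommRingCatIso.hom))
  let j : pullback (U.2.fromSpec ≫ Y.hom) π ⟶ pullback Y.hom π :=
    (pullbackRightPullbackFstIso Y.hom π U.2.fromSpec).inv ≫ pullback.snd _ _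
  haveI : IsOpenImmersion j := inferInstance
  refine ⟨c ≫ e.hom ≫ j, inferInstance, ?_⟩
  rw [range_comp_surjective, range_comp_surjective, range_comp_surjective]
  refine (Scheme.Pullback.range_snd U.2.fromSpec (pullback.fst Y.hom π)).trans ?_
  rw [U.2.range_fromSpec]

/-- The derived group specialises. -/
theorem exists_normal_limit [Smooth G.hom] (hb : Function.Surjective (algebraMap V Ω))
    {N : Over (Spec (CommRingCat.of L))} [GrpObj N]
    (n : N ⟶ Red.bc (Spec.map (CommRingCat.ofHom (algebraMap V L)) ≫ g) G) [IsMonHom n] [IsClosedImmersion n.left]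
    (hcm : ∀ x y : 𝟙_ (Over (Spec (CommRingCat.of L))) ⟶ Red.bc (Spec.map (CommRingCat.ofHom (algebraMap V L)) ≫ g) G,
      ∃ m, x * y * x⁻¹ * y⁻¹ = m ≫ n) :
    ∃ (N' : Over (Spec (CommRingCat.of Ω))) (_ : GrpObj N')
      (i : N' ⟶ Red.bc (Spec.map (CommRingCat.ofHom (algebraMap V Ω)) ≫ g) G),
      IsMonHom i ∧ IsClosedImmersion i.left ∧ AlgGrp.IsNormalHom i ∧
      (∀ (T : Over (Spec (CommRingCat.of Ω))) (a b : T ⟶ Red.bc (Spec.map (CommRingCat.ofHom (algebraMap V Ω)) ≫ g) G),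
        ∃ m : T ⟶ N', a * b * a⁻¹ * b⁻¹ = m ≫ i) ∧
      topologicalKrullDim N'.left ≤ topologicalKrullDim N.left := by
  let X := Red.bc g G
  let GLf := Red.bc (Spec.map (CommRingCat.ofHom (algebraMap V L)) ≫ g) G
  let GΩ := Red.bc (Spec.map (CommRingCat.ofHom (algebraMap V Ω)) ≫ g) G
  haveI : Smooth GΩ.hom :=
    inferInstanceAs (Smooth (pullback.snd G.hom (Spec.map (CommRingCat.ofHom (algebraMap V Ω)) ≫ g)))
  haveI : LocallyOfFiniteType GLf.hom :=
    inferInstanceAs (LocallyOfFiniteType (pullback.snd G.hom (Spec.map (CommRingCat.ofHom (algebraMap V L)) ≫ g)))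
  haveI : LocallyOfFiniteType N.hom := by rw [← Over.w n]; infer_instance
  haveI : JacobsonSpace N.left := LocallyOfFiniteType.jacobsonSpace N.hom
  haveI : JacobsonSpace GΩ.left := LocallyOfFiniteType.jacobsonSpace GΩ.hom
  let ψ : (𝟙_ (Over (Spec (CommRingCat.of L))) ⟶ N) →* (ptO V L ⟶ X) :=
    (ptE G g L).toMonoidHom.comp
      { toFun := fun x => x ≫ n, map_one' := MonObj.one_comp n, map_mul' := fun x y => MonObj.mul_comp x y n }
  let Φ : Subgroup (𝟙_ (Over (Spec (CommRingCat.of Ω))) ⟶ GΩ) :=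
    (ClSub Ω ψ.range).comap (ptE G g Ω).toMonoidHom
  let C : Set X.left := closure (pnt '' (ψ.range : Set (ptO V L ⟶ X)))
  have hΦ : ∀ z, z ∈ Φ ↔ proj G g Ω (rpt z) ∈ C := fun z => by
    show ptE G g Ω z ∈ ClSub Ω ψ.range ↔ _
    rw [mem_ClSub, pnt_ptE]
  obtain ⟨H', gH', i', hm', hc', hsm', hr'⟩ := GrpField.RatClosure.exists_subgroup_closure Φ
  haveI := hm'; haveI := hc'; haveI := hsm'
  have hrange : Set.range i'.left = proj G g Ω ⁻¹' C := by
    rw [hr']
    refine Set.Subset.antisymm ((isClosed_closure.preimage (proj G g Ω).continuous).closure_subset_iff.2 ?_) ?_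
    · rintro _ ⟨z, hz, rfl⟩
      exact (hΦ z).1 hz
    · rw [← JacobsonSpace.closure_inter_closedPoints (Z := proj G g Ω ⁻¹' C)
        (isClosed_closure.preimage (proj G g Ω).continuous)]
      refine closure_mono ?_
      rintro w ⟨hwC, hw⟩
      obtain ⟨z, rfl⟩ := exists_rpt hw
      exact ⟨z, (hΦ z).2 hwC, rfl⟩
  -- commutators of rational points
  have hall : ∀ x, ptE G g Ω x ∈ ClSub Ω (⊤ : Subgroup (ptO V L ⟶ X)) := fun x => by
    rw [mem_ClSub, Subgroup.coe_top]
    exact mem_closure_all G g L _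
  have hrp : ∀ x y : 𝟙_ (Over (Spec (CommRingCat.of Ω))) ⟶ GΩ, x * y * x⁻¹ * y⁻¹ ∈ Φ := fun x y => by
    show ptE G g Ω (x * y * x⁻¹ * y⁻¹) ∈ ClSub Ω ψ.range
    simp only [map_mul, map_inv]
    rw [← commutatorElement_def]
    refine ClSub_mono Ω ?_ (commutator_le Ω ⊤ ⊤ (Subgroup.commutator_mem_commutator (hall x) (hall y)))
    rw [Subgroup.commutator_le]
    intro a _ b _
    obtain ⟨a, rfl⟩ := (ptE G g L).surjective a
    obtain ⟨b, rfl⟩ := (ptE G g L).surjective b
    obtain ⟨m, hm⟩ := hcm a b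
    refine ⟨m, ?_⟩
    show ptE G g L (m ≫ n) = _
    rw [← hm, commutatorElement_def]
    simp only [map_mul, map_inv]
  -- the universal commutator
  haveI : Smooth (GΩ ⊗ GΩ).hom := by
    show Smooth (pullback.fst GΩ.hom GΩ.hom ≫ GΩ.hom)
    infer_instance
  haveI : IsReduced (GΩ ⊗ GΩ).left := SmoothRed.isReduced_of_smooth_scheme (GΩ ⊗ GΩ).hom
  let κ : GΩ ⊗ GΩ ⟶ GΩ := fst GΩ GΩ * snd GΩ GΩ * (fst GΩ GΩ)⁻¹ * (snd GΩ GΩ)⁻¹
  haveI : JacobsonSpace (GΩ ⊗ GΩ).left := LocallyOfFiniteType.jacobsonSpace (GΩ ⊗ GΩ).hom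
  have hκ : Set.range κ.left ⊆ Set.range i'.left := by
    rintro _ ⟨w, rfl⟩
    have hsub : closedPoints (GΩ ⊗ GΩ).left ⊆ κ.left ⁻¹' Set.range i'.left := by
      intro v hv
      obtain ⟨q, rfl⟩ := exists_rpt hv
      show κ.left (rpt q) ∈ Set.range i'.left
      rw [map_rpt, hrange, Set.mem_preimage]
      refine (hΦ _).1 ?_
      simp only [κ, MonObj.comp_mul, GrpObj.comp_inv]
      exact hrp _ _
    have h1 := (i'.left.isClosedEmbedding.isClosed_range.preimage κ.left.continuous).closure_subset_iff.2 hsub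
    exact h1 (closure_closedPoints (X := (GΩ ⊗ GΩ).left) ▸ Set.mem_univ w)
  obtain ⟨l, hl⟩ := RedSepLib.exists_lift_of_isReduced κ.left i'.left hκ
  let l' : GΩ ⊗ GΩ ⟶ H' := Over.homMk l (by rw [← Over.w i', reassoc_of% hl, Over.w])
  have hl' : l' ≫ i' = κ := Over.OverMorphism.ext hl
  have hT : ∀ (T : Over (Spec (CommRingCat.of Ω))) (a b : T ⟶ GΩ),
      ∃ m : T ⟶ H', a * b * a⁻¹ * b⁻¹ = m ≫ i' := fun T a b => by
    refine ⟨lift a b ≫ l', ?_⟩
    rw [Category.assoc, hl']
    simp [κ, MonObj.comp_mul, GrpObj.comp_inv]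
  refine ⟨H', gH', i', hm', hc', fun T a x => ?_, hT, ?_⟩
  · obtain ⟨m, hm⟩ := hT T a (x ≫ i')
    exact ⟨m * x, by rw [MonObj.mul_comp, ← hm]; group⟩
  -- dimensions
  let I := Scheme.IdealSheafData.vanishingIdeal (⟨C, isClosed_closure⟩ : Closeds X.left)
  let Y : Over (Spec (CommRingCat.of V)) := Over.mk (I.subschemeι ≫ X.hom)
  have hIr : Set.range I.subschemeι = C := by
    rw [Scheme.IdealSheafData.range_subschemeι, Scheme.IdealSheafData.coe_support_vanishingIdeal]; rfl
  haveI : IsReduced Y.left := DvrDom.isReduced_vanishingIdeal_subscheme _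
  haveI : LocallyOfFiniteType Y.hom := inferInstanceAs (LocallyOfFiniteType (I.subschemeι ≫ X.hom))
  haveI : Flat Y.hom := by
    let A : Set (ptO V L ⟶ Y) := Set.univ
    refine flat_of_dense (L := L) A ?_
    rw [show Dense (pnt '' A) ↔ _ from I.subschemeι.isEmbedding.isInducing.dense_iff]
    intro y
    refine closure_mono ?_ (hIr.le ⟨y, rfl⟩ : I.subschemeι y ∈ C)
    rintro _ ⟨a, ha, rfl⟩
    haveI : IsReduced (ptO V L).left := inferInstanceAs (IsReduced (Spec (CommRingCat.of L)))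
    obtain ⟨b, hb'⟩ := RedSepLib.exists_lift_of_isReduced a.left I.subschemeι (by
      rw [range_left, hIr]; exact Set.singleton_subset_iff.2 (subset_closure ⟨a, ha, rfl⟩))
    refine ⟨pnt (Over.homMk (U := ptO V L) (V := Y) b (by
      show b ≫ I.subschemeι ≫ X.hom = _
      rw [reassoc_of% hb', Over.w])), ⟨_, trivial, rfl⟩, ?_⟩
    show I.subschemeι (b _) = pnt a
    rw [← Scheme.Hom.comp_apply, hb']
    rfl
  have h1C : pnt (1 : ptO V Ω ⟶ X) ∈ C := (ClSub Ω ψ.range).one_mem
  obtain ⟨y₀, hy₀⟩ := hIr.ge h1C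
  obtain ⟨U₀, hU₀, hyU, -⟩ := exists_isAffineOpen_mem_and_subset (U := (⊤ : Y.left.Opens)) (x := y₀) trivial
  let U : Y.left.affineOpens := ⟨U₀, hU₀⟩
  letI := secAlg U
  haveI := secAlg_finiteType U
  haveI := secAlg_flat U
  obtain ⟨mΩ, hmΩ, hrΩ⟩ := exists_chart (Y := Y) U Ω
  obtain ⟨mL, hmL, hrL⟩ := exists_chart (Y := Y) U L
  -- comparison with the fibres
  have cmp : ∀ (K : Type u) [Field K] [Algebra V K],
      ∃ c : pullback Y.hom (Spec.map (CommRingCat.ofHom (algebraMap V K))) ⟶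
        (Red.bc (Spec.map (CommRingCat.ofHom (algebraMap V K)) ≫ g) G).left,
        IsClosedImmersion c ∧ Set.range c = proj G g K ⁻¹' C ∧
        c ≫ proj G g K = pullback.fst _ _ ≫ I.subschemeι := by
    intro K _ _
    have hp := isPullback_proj G g K
    let c := hp.lift (pullback.fst Y.hom _ ≫ I.subschemeι) (pullback.snd Y.hom _) (by
      rw [Category.assoc]; exact pullback.condition)
    have hc1 : c ≫ proj G g K = pullback.fst _ _ ≫ I.subschemeι := hp.lift_fst _ _ _
    have hsq : IsPullback (pullback.fst Y.hom (Spec.map (CommRingCat.ofHom (algebraMap V K)))) c I.subschemeι (proj G g K) := by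
      refine IsPullback.of_bot ?_ hc1.symm hp
      rw [show c ≫ pullback.snd _ _ = pullback.snd _ _ from hp.lift_snd _ _ _]
      exact IsPullback.of_hasPullback Y.hom _
    haveI : IsClosedImmersion c := MorphismProperty.of_isPullback hsq inferInstance
    refine ⟨c, inferInstance, Set.ext fun w => ⟨?_, fun hw => ?_⟩, hc1⟩
    · rintro ⟨v, rfl⟩
      show proj G g K (c v) ∈ C
      rw [← Scheme.Hom.comp_apply, hc1, Scheme.Hom.comp_apply, ← hIr]
      exact ⟨_, rfl⟩
    · obtain ⟨y, hy⟩ := hIr.ge hw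
      obtain ⟨v, -, hv⟩ := Scheme.exists_preimage_of_isPullback hsq y w hy
      exact ⟨v, hv⟩
  obtain ⟨cO, hcO, hcOr, hcO1⟩ := cmp Ω
  obtain ⟨cLf, hcL, hcLr, hcL1⟩ := cmp L
  haveI := hmΩ; haveI := hmL; haveI := hcO; haveI := hcL
  -- the special side
  have hWe : Topology.IsEmbedding (fun w => cO (mΩ w)) := cO.isClosedEmbedding.isEmbedding.comp mΩ.isOpenEmbedding.isEmbedding
  let W : Set H'.left := i'.left ⁻¹' Set.range (fun w => cO (mΩ w))
  have hWrange : i'.left '' W = Set.range (fun w => cO (mΩ w)) := by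
    rw [Set.image_preimage_eq_inter_range, Set.inter_eq_left, hrange, ← hcOr]
    rintro _ ⟨w, rfl⟩; exact ⟨_, rfl⟩
  have hWo : IsOpen W := by
    obtain ⟨O, hO, hOe⟩ := cO.isClosedEmbedding.isEmbedding.isInducing.isOpen_iff.1 mΩ.isOpenEmbedding.isOpen_range
    have : W = i'.left ⁻¹' O := by
      ext h
      have hh : i'.left h ∈ Set.range cO := by rw [hcOr, ← hrange]; exact ⟨h, rfl⟩
      obtain ⟨v, hv⟩ := hh
      constructor
      · rintro ⟨w, hw⟩
        show i'.left h ∈ O
        rw [← hw]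
        exact hOe.ge ⟨w, rfl⟩
      · intro hh
        obtain ⟨w, hw⟩ := hOe.le (show v ∈ cO ⁻¹' O by show cO v ∈ O; rw [hv]; exact hh)
        exact ⟨w, by show cO (mΩ w) = _; rw [hw, hv]⟩
    rw [this]; exact hO.preimage i'.left.continuous
  have hW1 : rpt (1 : 𝟙_ _ ⟶ H') ∈ W := by
    have hproj : proj G g Ω (i'.left (rpt (1 : 𝟙_ _ ⟶ H'))) = I.subschemeι y₀ := by
      rw [hy₀, map_rpt, MonObj.one_comp, ← pnt_ptE, map_one]
    have hh : i'.left (rpt (1 : 𝟙_ _ ⟶ H')) ∈ Set.range cO := by rw [hcOr, ← hrange]; exact ⟨_, rfl⟩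
    obtain ⟨v, hv⟩ := hh
    have hvU : v ∈ Set.range mΩ := by
      rw [hrΩ, Set.mem_preimage]
      have : I.subschemeι (pullback.fst Y.hom _ v) = I.subschemeι y₀ := by
        rw [← hproj, ← hv, ← Scheme.Hom.comp_apply, hcO1]
        rfl
      rw [I.subschemeι.isClosedEmbedding.injective this]
      exact hyU
    obtain ⟨w, rfl⟩ := hvU
    exact ⟨w, hv⟩
  have hdW : topologicalKrullDim H'.left = topologicalKrullDim (Spec (CommRingCat.of (Ω ⊗[V] Γ(Y.left, U.1)))) := by
    rw [← (GrpField.equidimensional H').2 _ W hWo hW1]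
    exact IsHomeomorph.topologicalKrullDim_eq _ ((i'.left.isClosedEmbedding.isEmbedding.homeomorphImage W).trans
      ((Homeomorph.setCongr hWrange).trans hWe.toHomeomorph.symm)).isHomeomorph
  -- the generic side
  haveI : IsPreimmersion (Spec.map (CommRingCat.ofHom (algebraMap V L))) :=
    IsPreimmersion.of_isLocalization (R := V) (S := L) (nonZeroDivisors V)
  haveI : IsPreimmersion (proj G g L) :=
    MorphismProperty.of_isPullback (isPullback_proj G g L).flip ‹IsPreimmersion (Spec.map (CommRingCat.ofHom (algebraMap V L)))›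
  have hgen : proj G g L ⁻¹' C ⊆ Set.range n.left := by
    intro q hq
    have : q ∈ closure (Set.range n.left) := by
      rw [(proj G g L).isEmbedding.isInducing.closure_eq_preimage_closure_image]
      refine closure_mono ?_ hq
      rintro _ ⟨_, ⟨x, rfl⟩, rfl⟩
      exact ⟨rpt (x ≫ n), ⟨rpt x, map_rpt n x⟩, (pnt_ptE G g L (x ≫ n)).symm⟩
    rwa [n.left.isClosedEmbedding.isClosed_range.closure_eq] at this
  let eL : Spec (CommRingCat.of (L ⊗[V] Γ(Y.left, U.1))) → Set.range n.left := fun w => ⟨cLf (mL w), hgen (by rw [← hcLr]; exact ⟨_, rfl⟩)⟩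
  have heL : Topology.IsInducing eL :=
    (cLf.isClosedEmbedding.isEmbedding.comp mL.isOpenEmbedding.isEmbedding).isInducing.codRestrict _
  have hdL : topologicalKrullDim (Spec (CommRingCat.of (L ⊗[V] Γ(Y.left, U.1)))) ≤ topologicalKrullDim N.left := by
    refine heL.topologicalKrullDim_le.trans (le_of_eq ?_)
    exact (IsHomeomorph.topologicalKrullDim_eq _ n.left.isClosedEmbedding.isEmbedding.toHomeomorph.isHomeomorph).symm
  rw [hdW]
  refine le_trans ?_ hdL
  show topologicalKrullDim (PrimeSpectrum (Ω ⊗[V] Γ(Y.left, U.1))) ≤ topologicalKrullDim (PrimeSpectrum (L ⊗[V] Γ(Y.left, U.1)))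
  rw [PrimeSpectrum.topologicalKrullDim_eq_ringKrullDim, PrimeSpectrum.topologicalKrullDim_eq_ringKrullDim]
  exact ringKrullDim_special_le L Ω hb

end Groth.Agent.SemiCont
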