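import Groth.Agent.SemiCont.Limits
import Groth.Agent.SemiCont.Connect
import Groth.Agent.LimGrp.Normal
import Groth.Agent.GrpField.RatClosure
import Groth.Agent.GrpField.Dimension
import Groth.Agent.GModLib.ObsSolv
import Groth.Agent.S3388

/-!
# Subgroups of the special fibre from subgroups of the generic fibre
-/

universe u

open CategoryTheory CategoryTheory.Limits MonoidalCategory CartesianMonoidalCategory MonObj GrpObj AlgebraicGeometry TopologicalSpace
open Groth.Agent.SubGen (rpt exists_rpt rpt_injective rpt_mem_closedPoints map_rpt)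

set_option backward.isDefEq.respectTransparency false
set_option synthInstance.maxHeartbeats 400000
set_option maxHeartbeats 2000000

noncomputable section

namespace Groth.Agent.SemiCont

variable {S : Scheme.{u}} (G : Over S) [GrpObj G] {V : Type u} [CommRing V] (g : Spec (CommRingCat.of V) ⟶ S)

/-- The fibre over a point of the valuation ring. -/
def proj (K : Type u) [CommRing K] [Algebra V K] :
    (Red.bc (Spec.map (CommRingCat.ofHom (algebraMap V K)) ≫ g) G).left ⟶ (Red.bc g G).left :=
  pullback.lift (pullback.fst _ _) (pullback.snd _ _ ≫ Spec.map (CommRingCat.ofHom (algebraMap V K)))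
    (by rw [Category.assoc]; exact pullback.condition)

theorem isPullback_proj (K : Type u) [CommRing K] [Algebra V K] :
    IsPullback (proj G g K) (pullback.snd G.hom (Spec.map (CommRingCat.ofHom (algebraMap V K)) ≫ g))
      (pullback.snd G.hom g) (Spec.map (CommRingCat.ofHom (algebraMap V K))) := by
  refine IsPullback.of_right ?_ (pullback.lift_snd _ _ _) (IsPullback.of_hasPullback G.hom g)
  rw [show proj G g K ≫ pullback.fst G.hom g = pullback.fst _ _ from pullback.lift_fst _ _ _]
  exact IsPullback.of_hasPullback _ _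

/-- Rational points of a fibre are points of the base change. -/
def ptE (K : Type u) [Field K] [Algebra V K] :
    (𝟙_ (Over (Spec (CommRingCat.of K))) ⟶ Red.bc (Spec.map (CommRingCat.ofHom (algebraMap V K)) ≫ g) G) ≃*
      (ptO V K ⟶ Red.bc g G) :=
  let π := Spec.map (CommRingCat.ofHom (algebraMap V K))
  let u : (Over.map g).obj (ptO V K) ≅ (Over.map (π ≫ g)).obj (𝟙_ (Over (Spec (CommRingCat.of K)))) :=
    Over.isoMk (Iso.refl _) (by
      show 𝟙 _ ≫ 𝟙 _ ≫ π ≫ g = π ≫ g
      rw [Category.id_comp, Category.id_comp])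
  ((LimGrp.bcMulEquiv (π ≫ g) (𝟙_ (Over (Spec (CommRingCat.of K)))) G).symm.trans
    { toFun := fun x => u.hom ≫ x
      invFun := fun x => u.inv ≫ x
      left_inv := fun x => u.inv_hom_id_assoc x
      right_inv := fun x => u.hom_inv_id_assoc x
      map_mul' := fun x y => MonObj.comp_mul _ x y }).trans (LimGrp.bcMulEquiv g (ptO V K) G)

theorem ptE_left (K : Type u) [Field K] [Algebra V K]
    (z : 𝟙_ (Over (Spec (CommRingCat.of K))) ⟶ Red.bc (Spec.map (CommRingCat.ofHom (algebraMap V K)) ≫ g) G) :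
    (ptE G g K z).left = z.left ≫ proj G g K := by
  have es : ∀ {S' : Scheme.{u}} (f : S' ⟶ S) (T : Over S') (a : T ⟶ Red.bc f G),
      (((Over.mapPullbackAdj f).homEquiv T G).symm a).left = a.left ≫ pullback.fst G.hom f := fun f T a => by
    simp [Adjunction.homEquiv_counit]
  have eh : ∀ {S' : Scheme.{u}} (f : S' ⟶ S) (T : Over S') (a : (Over.map f).obj T ⟶ G),
      ((Over.mapPullbackAdj f).homEquiv T G a).left ≫ pullback.fst G.hom f = a.left := fun f T a => by
    have h := es f T ((Over.mapPullbackAdj f).homEquiv T G a)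
    rw [Equiv.symm_apply_apply] at h
    exact h.symm
  apply pullback.hom_ext
  · refine Eq.trans ?_ (Category.assoc _ _ _).symm
    rw [show proj G g K ≫ pullback.fst G.hom g = pullback.fst _ _ from pullback.lift_fst _ _ _]
    refine (eh g _ _).trans ?_
    show 𝟙 _ ≫ _ = _
    rw [Category.id_comp]
    exact es _ _ z
  · refine (Over.w (ptE G g K z)).trans ?_
    rw [Category.assoc, show proj G g K ≫ pullback.snd G.hom g = pullback.snd _ _ ≫
      Spec.map (CommRingCat.ofHom (algebraMap V K)) from pullback.lift_snd _ _ _, ← Category.assoc]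
    show _ = (z.left ≫ (Red.bc (Spec.map (CommRingCat.ofHom (algebraMap V K)) ≫ g) G).hom) ≫ _
    rw [Over.w z]
    exact (Category.id_comp _).symm

theorem pnt_ptE (K : Type u) [Field K] [Algebra V K]
    (z : 𝟙_ (Over (Spec (CommRingCat.of K))) ⟶ Red.bc (Spec.map (CommRingCat.ofHom (algebraMap V K)) ≫ g) G) :
    pnt (ptE G g K z) = proj G g K (rpt z) := by
  show (ptE G g K z).left _ = _
  rw [ptE_left]
  rfl

variable [IsDomain V] [ValuationRing V] [LocallyOfFiniteType G.hom]
  {L : Type u} [Field L] [IsAlgClosed L] [Algebra V L] [IsFractionRing V L]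
  (Ω : Type u) [Field Ω] [IsAlgClosed Ω] [Algebra V Ω]

instance lft_bc : LocallyOfFiniteType (Red.bc g G).hom :=
  inferInstanceAs (LocallyOfFiniteType (pullback.snd G.hom g))

/-- Limits of the trivial group form a finite subset of a quasi-compact subgroup of the special fibre. -/
theorem finite_ClSub_bot (hb : Function.Surjective (algebraMap V Ω)) {K : Over (Spec (CommRingCat.of Ω))}
    [GrpObj K] [LocallyOfFiniteType K.hom] [CompactSpace K.left]
    (φ : (𝟙_ (Over (Spec (CommRingCat.of Ω))) ⟶ K) →* (ptO V Ω ⟶ Red.bc g G))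
    (Q : K.left ⟶ (Red.bc g G).left) (hQ : Function.Injective Q) (hφ : ∀ z, pnt (φ z) = Q (rpt z)) :
    {z | φ z ∈ ClSub Ω (⊥ : Subgroup (ptO V L ⟶ Red.bc g G))}.Finite := by
  haveI : JacobsonSpace K.left := LocallyOfFiniteType.jacobsonSpace K.hom
  haveI : LocallyOfFiniteType (Red.bc g G).hom := inferInstanceAs (LocallyOfFiniteType (pullback.snd G.hom g))
  obtain ⟨U, hU1, hU⟩ := exists_open_isolated (L := L) Ω (X := Red.bc g G) hb
  let N : Subgroup (𝟙_ (Over (Spec (CommRingCat.of Ω))) ⟶ K) := (ClSub Ω (⊥ : Subgroup (ptO V L ⟶ Red.bc g G))).comap φ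
  let C : Set K.left := Q ⁻¹' closure (pnt '' ((⊥ : Subgroup (ptO V L ⟶ Red.bc g G)) : Set (ptO V L ⟶ Red.bc g G)))
  have hC : IsClosed C := isClosed_closure.preimage Q.continuous
  have hCN : ∀ z, rpt z ∈ C ↔ z ∈ N := fun z => by
    show Q (rpt z) ∈ closure _ ↔ φ z ∈ ClSub Ω (⊥ : Subgroup (ptO V L ⟶ Red.bc g G))
    rw [← hφ]
    exact Iff.rfl
  have hiso : ∀ z ∈ N, Q (rpt z) ∈ U → z = 1 := fun z hz hzU => by
    have := hU (φ z) hz (by rw [hφ]; exact hzU)
    rw [← map_one φ, hφ, hφ] at this
    exact rpt_injective (hQ this)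
  let t : (𝟙_ (Over (Spec (CommRingCat.of Ω))) ⟶ K) → (K ⟶ K) := fun z => (toUnit K ≫ z⁻¹) * 𝟙 K
  have ht : ∀ z w, w ≫ t z = z⁻¹ * w := fun z w => by
    simp only [t, MonObj.comp_mul, Chev.Borel.rp_const, Category.comp_id]
  let O : N → Set K.left := fun z => (t z.1).left ⁻¹' (Q ⁻¹' U)
  have hOo : ∀ z, IsOpen (O z) := fun z => (U.2.preimage Q.continuous).preimage (t z.1).left.continuous
  have hcov : C ⊆ ⋃ z, O z := by
    intro w hw
    by_contra hn
    obtain ⟨q, ⟨hqC, hqn⟩, hqc⟩ := nonempty_inter_closedPoints (Z := C ∩ (⋃ z, O z)ᶜ) ⟨w, hw, hn⟩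
      (hC.inter (isOpen_iUnion hOo).isClosed_compl).isLocallyClosed
    obtain ⟨z, rfl⟩ := exists_rpt hqc
    refine hqn (Set.mem_iUnion.2 ⟨⟨z, (hCN z).1 hqC⟩, ?_⟩)
    show Q ((t z).left (rpt z)) ∈ U
    rw [map_rpt, ht, inv_mul_cancel, ← hφ, map_one]
    exact hU1
  obtain ⟨s, hs⟩ := hC.isCompact.elim_finite_subcover O hOo hcov
  refine (s.finite_toSet.image Subtype.val).subset fun z hz => ?_
  obtain ⟨z', hz', hzO⟩ := Set.mem_iUnion₂.1 (hs ((hCN z).2 hz))
  refine ⟨z', hz', ?_⟩
  have h := hiso (z'.1⁻¹ * z) (mul_mem (inv_mem z'.2) hz) (by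
    have : Q ((t z'.1).left (rpt z)) ∈ U := hzO
    rwa [map_rpt, ht] at this)
  exact (inv_mul_eq_one.1 h)

omit [LocallyOfFiniteType G.hom] in
/-- Nilpotency can be tested on rational points. -/
theorem isNilpotentGrp_of_rp (K : Over (Spec (CommRingCat.of Ω))) [GrpObj K] [Smooth K.hom] [QuasiCompact K.hom]
    [Group.IsNilpotent (𝟙_ (Over (Spec (CommRingCat.of Ω))) ⟶ K)] : AGF.IsNilpotentGrp K := by
  obtain ⟨n, hn⟩ := Subgroup.nilpotent_iff_lowerCentralSeries.1 ‹_›
  refine ⟨n, fun X => Subgroup.lowerCentralSeries_eq_bot_iff_upperCentralSeries_eq_top.1 ?_⟩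
  revert X
  refine (Groth.Agent.S5366.result Ω K Ω n).2.2 ?_
  have e : Over.mk (Spec.map (CommRingCat.ofHom (algebraMap Ω Ω))) = 𝟙_ (Over (Spec (CommRingCat.of Ω))) := by
    rw [Algebra.algebraMap_self]
    exact congrArg Over.mk (Spec.map_id _)
  rw [e]
  exact hn

/-- The connected subgroup of limits of points of a connected subgroup of the generic fibre. -/
theorem exists_subgroup_limit (hb : Function.Surjective (algebraMap V Ω))
    {H : Over (Spec (CommRingCat.of L))} [GrpObj H]
    (i : H ⟶ Red.bc (Spec.map (CommRingCat.ofHom (algebraMap V L)) ≫ g) G) [IsMonHom i] [IsClosedImmersion i.left]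
    [IrreducibleSpace H.left] [QuasiCompact G.hom] :
    ∃ (K : Over (Spec (CommRingCat.of Ω))) (_ : GrpObj K)
      (j : K ⟶ Red.bc (Spec.map (CommRingCat.ofHom (algebraMap V Ω)) ≫ g) G),
      IsMonHom j ∧ IsClosedImmersion j.left ∧ Smooth K.hom ∧ ConnectedSpace K.left ∧
      topologicalKrullDim H.left ≤ topologicalKrullDim K.left ∧
      (Group.IsSolvable (𝟙_ (Over (Spec (CommRingCat.of L))) ⟶ H) → Red.IsSolvableGrp K) ∧
      (Group.IsNilpotent (𝟙_ (Over (Spec (CommRingCat.of L))) ⟶ H) → AGF.IsNilpotentGrp K) ∧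
      ((∀ x y : 𝟙_ (Over (Spec (CommRingCat.of L))) ⟶ H, x * y = y * x) → IsCommMonObj K) := by
  let X := Red.bc g G
  haveI : LocallyOfFiniteType X.hom := inferInstanceAs (LocallyOfFiniteType (pullback.snd G.hom g))
  let GLf := Red.bc (Spec.map (CommRingCat.ofHom (algebraMap V L)) ≫ g) G
  let GΩ := Red.bc (Spec.map (CommRingCat.ofHom (algebraMap V Ω)) ≫ g) G
  haveI : LocallyOfFiniteType GΩ.hom :=
    inferInstanceAs (LocallyOfFiniteType (pullback.snd G.hom (Spec.map (CommRingCat.ofHom (algebraMap V Ω)) ≫ g)))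
  haveI : QuasiCompact GΩ.hom :=
    inferInstanceAs (QuasiCompact (pullback.snd G.hom (Spec.map (CommRingCat.ofHom (algebraMap V Ω)) ≫ g)))
  haveI : LocallyOfFiniteType GLf.hom :=
    inferInstanceAs (LocallyOfFiniteType (pullback.snd G.hom (Spec.map (CommRingCat.ofHom (algebraMap V L)) ≫ g)))
  haveI : LocallyOfFiniteType H.hom := by rw [← Over.w i]; infer_instance
  haveI : JacobsonSpace H.left := LocallyOfFiniteType.jacobsonSpace H.hom
  let ψ : (𝟙_ (Over (Spec (CommRingCat.of L))) ⟶ H) →* (ptO V L ⟶ X) :=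
    (ptE G g L).toMonoidHom.comp
      { toFun := fun x => x ≫ i, map_one' := MonObj.one_comp i, map_mul' := fun x y => MonObj.mul_comp x y i }
  let Φ : Subgroup (𝟙_ (Over (Spec (CommRingCat.of Ω))) ⟶ GΩ) :=
    (ClSub Ω ψ.range).comap (ptE G g Ω).toMonoidHom
  let C : Set X.left := closure (pnt '' (ψ.range : Set (ptO V L ⟶ X)))
  have hΦ : ∀ z, z ∈ Φ ↔ proj G g Ω (rpt z) ∈ C := fun z => by
    show ptE G g Ω z ∈ ClSub Ω ψ.range ↔ _
    rw [mem_ClSub, pnt_ptE]
  obtain ⟨H', gH', i', hm', hc', hsm', hr'⟩ := GrpField.RatClosure.exists_subgroup_closure Φ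
  haveI := hm'; haveI := hc'; haveI := hsm'
  haveI : JacobsonSpace GΩ.left := LocallyOfFiniteType.jacobsonSpace GΩ.hom
  have hrange : Set.range i'.left = proj G g Ω ⁻¹' C := by
    rw [hr']
    refine Set.Subset.antisymm ((isClosed_closure.preimage (proj G g Ω).continuous).closure_subset_iff.2 ?_) ?_
    · rintro _ ⟨z, hz, rfl⟩
      exact (hΦ z).1 hz
    · rw [← JacobsonSpace.closure_inter_closedPoints (Z := proj G g Ω ⁻¹' C)
        (isClosed_closure.preimage (proj G g Ω).continuous)]
      refine closure_mono ?_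
      rintro w ⟨hwC, hw⟩
      obtain ⟨z, rfl⟩ := exists_rpt hw
      exact ⟨z, (hΦ z).2 hwC, rfl⟩
  obtain ⟨K, gK, j, hjm, hjo, hjr, hKs, hKc⟩ := GModLib.exists_open_connected H'
  haveI := hjm; haveI := hjo; haveI := hKs; haveI := hKc
  haveI : LocallyOfFiniteType H'.hom := inferInstance
  haveI : IsClosedImmersion j.left := by
    refine IsClosedImmersion.of_isPreimmersion _ ?_
    rw [hjr]; exact isClosed_connectedComponent
  haveI : IsClosedImmersion (j ≫ i').left := by rw [Over.comp_left]; infer_instance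
  haveI : QuasiCompact K.hom := by rw [← Over.w (j ≫ i')]; infer_instance
  haveI : CompactSpace K.left := QuasiCompact.compactSpace_of_compactSpace K.hom
  -- the map of rational points
  let φ : (𝟙_ (Over (Spec (CommRingCat.of Ω))) ⟶ K) →* (ptO V Ω ⟶ X) :=
    (ptE G g Ω).toMonoidHom.comp
      { toFun := fun x => x ≫ j ≫ i', map_one' := MonObj.one_comp (j ≫ i'),
        map_mul' := fun x y => MonObj.mul_comp x y (j ≫ i') }
  have hφ : ∀ z, φ z ∈ ClSub Ω ψ.range := fun z => by
    have : proj G g Ω (rpt (z ≫ j ≫ i')) ∈ C := hrange.le ⟨rpt (z ≫ j), map_rpt i' (z ≫ j)⟩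
    exact (hΦ _).2 this
  have hinjΩ : Function.Injective (proj G g Ω) := by
    haveI : IsClosedImmersion (Spec.map (CommRingCat.ofHom (algebraMap V Ω))) := IsClosedImmersion.spec_of_surjective _ hb
    haveI : IsClosedImmersion (proj G g Ω) :=
      MorphismProperty.of_isPullback (isPullback_proj G g Ω).flip ‹IsClosedImmersion (Spec.map (CommRingCat.ofHom (algebraMap V Ω)))›
    exact (proj G g Ω).isClosedEmbedding.injective
  have hfin : {z | φ z ∈ ClSub Ω (⊥ : Subgroup (ptO V L ⟶ X))}.Finite := by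
    refine finite_ClSub_bot G g Ω hb φ ((j ≫ i').left ≫ proj G g Ω) ?_ fun z => ?_
    · rw [Scheme.Hom.comp_base]
      exact hinjΩ.comp (j ≫ i').left.isClosedEmbedding.injective
    · exact (pnt_ptE G g Ω _).trans rfl
  refine ⟨K, gK, j ≫ i', inferInstance, inferInstance, hKs, hKc, ?_, ?_, ?_, ?_⟩
  · -- dimensions
    have hH : H.left → X.left := fun h => proj G g L (i.left h)
    haveI : IsPreimmersion (Spec.map (CommRingCat.ofHom (algebraMap V L))) :=
      IsPreimmersion.of_isLocalization (R := V) (S := L) (nonZeroDivisors V)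
    haveI : IsPreimmersion (proj G g L) :=
      MorphismProperty.of_isPullback (isPullback_proj G g L).flip ‹IsPreimmersion (Spec.map (CommRingCat.ofHom (algebraMap V L)))›
    let ι₀ : H.left → X.left := fun h => proj G g L (i.left h)
    have hι₀ : Topology.IsEmbedding ι₀ := (proj G g L).isEmbedding.comp i.left.isClosedEmbedding.isEmbedding
    have hC : C = closure (Set.range ι₀) := by
      refine Set.Subset.antisymm (closure_mono ?_) ?_
      · rintro _ ⟨_, ⟨x, rfl⟩, rfl⟩
        exact ⟨rpt x, (congrArg (proj G g L) (map_rpt i x)).trans (pnt_ptE G g L (x ≫ i)).symm⟩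
      · refine isClosed_closure.closure_subset_iff.2 ?_
        rintro _ ⟨h, rfl⟩
        have h1 : h ∈ closure (closedPoints H.left) := (closure_closedPoints (X := H.left)).symm ▸ Set.mem_univ h
        refine closure_mono ?_ (mem_closure_image hι₀.continuous.continuousAt h1)
        rintro _ ⟨w, hw, rfl⟩
        obtain ⟨x, rfl⟩ := exists_rpt hw
        exact ⟨ψ x, ⟨x, rfl⟩, (pnt_ptE G g L (x ≫ i)).trans (congrArg (proj G g L) (map_rpt i x).symm)⟩
    let ηV : Spec (CommRingCat.of V) := (⟨⊥, Ideal.isPrime_bot⟩ : PrimeSpectrum V)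
    have hηg : IsGenericPoint ηV ⊤ := by
      rw [isGenericPoint_iff_specializes]
      exact fun y => ⟨fun _ => trivial, fun _ => (PrimeSpectrum.le_iff_specializes _ _).1 bot_le⟩
    have hgen : genericPoint ↥(Spec (CommRingCat.of V)) = ηV := (genericPoint_spec _).eq hηg
    have hιη : ∀ h, X.hom (ι₀ h) = ηV := fun h => by
      show X.hom (proj G g L (i.left h)) = ηV
      rw [← Scheme.Hom.comp_apply, show proj G g L ≫ X.hom = _ from (isPullback_proj G g L).w, Scheme.Hom.comp_apply]
      apply PrimeSpectrum.ext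
      show Ideal.comap (algebraMap V L) _ = ⊥
      rw [show ∀ p : PrimeSpectrum L, p.asIdeal = ⊥ from fun p => (Ideal.eq_bot_or_top _).resolve_right p.isPrime.ne_top,
        ← RingHom.ker_eq_comap_bot]
      exact (RingHom.injective_iff_ker_eq_bot _).1 (IsFractionRing.injective V L)
    let I := Scheme.IdealSheafData.vanishingIdeal (⟨C, isClosed_closure⟩ : Closeds X.left)
    have hIr : Set.range I.subschemeι = C := by
      rw [Scheme.IdealSheafData.range_subschemeι, Scheme.IdealSheafData.coe_support_vanishingIdeal]; rfl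
    haveI : IrreducibleSpace I.subscheme := by
      have hCi : IsIrreducible C := by
        rw [hC, ← Set.image_univ]
        exact ((IrreducibleSpace.isIrreducible_univ H.left).image _ hι₀.continuous.continuousOn).closure
      have he := I.subschemeι.isClosedEmbedding.isEmbedding.toHomeomorph
      haveI : IrreducibleSpace (Set.range I.subschemeι) :=
        Subtype.irreducibleSpace (by rw [hIr]; exact hCi)
      exact he.symm.surjective.irreducibleSpace he.symm.continuous
    let f := I.subschemeι ≫ X.hom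
    have hmemC : ∀ h, ι₀ h ∈ C := fun h => hC ▸ subset_closure ⟨h, rfl⟩
    haveI : IsDominant f := by
      refine ⟨?_⟩
      rw [DenseRange, dense_iff_closure_eq, ← Set.univ_subset_iff]
      obtain ⟨y, hy⟩ := hIr.ge (hmemC (Classical.arbitrary _))
      intro p _
      have hfy : f y = ηV := by rw [show f y = X.hom (I.subschemeι y) from rfl, hy, hιη]
      exact ((PrimeSpectrum.le_iff_specializes (⟨⊥, Ideal.isPrime_bot⟩ : PrimeSpectrum V) p).1 bot_le).mem_closed
        isClosed_closure (subset_closure ⟨y, hfy⟩)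
    haveI : LocallyOfFiniteType f := inferInstance
    -- the point of the unit in the special fibre
    have h1C : pnt (1 : ptO V Ω ⟶ X) ∈ C := (ClSub Ω ψ.range).one_mem
    obtain ⟨y₀, hy₀⟩ := hIr.ge h1C
    have hy₀s : f y₀ = Spec.map (CommRingCat.ofHom (algebraMap V Ω)) (IsLocalRing.closedPoint Ω) := by
      show X.hom (I.subschemeι y₀) = _
      rw [hy₀, pnt, ← Scheme.Hom.comp_apply, Over.w (1 : ptO V Ω ⟶ X)]
      rfl
    have hb1 := Groth.Agent.S3388.result f y₀
    rw [hgen] at hb1
    -- generic fibre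
    have hgenfib : f ⁻¹' {ηV} = I.subschemeι ⁻¹' Set.range ι₀ := by
      ext y
      refine ⟨fun hy => ?_, fun ⟨h, hh⟩ => ?_⟩
      · have hyX : X.hom (I.subschemeι y) = ηV := hy
        obtain ⟨q, hq, -⟩ := Scheme.exists_preimage_of_isPullback (isPullback_proj G g L) (I.subschemeι y)
          (IsLocalRing.closedPoint L) (hyX.trans (hιη (Classical.arbitrary _)).symm |>.trans (by
            rw [hιη]
            apply PrimeSpectrum.ext
            show ⊥ = Ideal.comap (algebraMap V L) _
            rw [show (IsLocalRing.closedPoint L).asIdeal = ⊥ from IsLocalRing.maximalIdeal_eq_bot,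
              ← RingHom.ker_eq_comap_bot]
            exact ((RingHom.injective_iff_ker_eq_bot _).1 (IsFractionRing.injective V L)).symm))
        have hyC : I.subschemeι y ∈ closure (Set.range ι₀) := hC ▸ hIr.le ⟨y, rfl⟩
        have hqi : q ∈ closure (Set.range i.left) := by
          rw [(proj G g L).isEmbedding.isInducing.closure_eq_preimage_closure_image]
          show proj G g L q ∈ closure (proj G g L '' Set.range i.left)
          rw [hq, ← Set.range_comp]
          exact hyC
        rw [i.left.isClosedEmbedding.isClosed_range.closure_eq] at hqi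
        obtain ⟨h, rfl⟩ := hqi
        exact ⟨h, hq⟩
      · show X.hom (I.subschemeι y) = ηV
        rw [← hh, hιη]
    let e1 : ↥(f ⁻¹' {ηV}) ≃ₜ H.left :=
      ((I.subschemeι.isEmbedding.homeomorphImage _).trans (Homeomorph.setCongr (by
        rw [hgenfib, Set.image_preimage_eq_inter_range, hIr, Set.inter_eq_left]
        rintro _ ⟨h, rfl⟩; exact hmemC h))).trans hι₀.toHomeomorph.symm
    have hd1 : topologicalKrullDim H.left = topologicalKrullDim ↥(f.fiber ηV) := by
      rw [IsHomeomorph.topologicalKrullDim_eq _ ((f.fiberHomeo ηV).trans e1).isHomeomorph]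
    have hd2 : FlatMor.fibreDimAt f y₀ ≤ topologicalKrullDim ↥(f.fiber (f y₀)) :=
      (iInf_le _ (⟨⊤, trivial⟩ : {U : Opens ↥(f.fiber (f y₀)) // f.asFiber y₀ ∈ U})).trans
        Topology.IsEmbedding.subtypeVal.isInducing.topologicalKrullDim_le
    -- special fibre
    have hspec : I.subschemeι '' (f ⁻¹' {f y₀}) = C ∩ Set.range (proj G g Ω) := by
      ext w
      constructor
      · rintro ⟨y, hy, rfl⟩
        refine ⟨hIr.le ⟨y, rfl⟩, ?_⟩
        obtain ⟨q, hq, -⟩ := Scheme.exists_preimage_of_isPullback (isPullback_proj G g Ω) (I.subschemeι y)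
          (IsLocalRing.closedPoint Ω) ((show X.hom (I.subschemeι y) = f y₀ from hy).trans hy₀s)
        exact ⟨q, hq⟩
      · rintro ⟨hwC, q, rfl⟩
        obtain ⟨y, hy⟩ := hIr.ge hwC
        refine ⟨y, ?_, hy⟩
        show X.hom (I.subschemeι y) = f y₀
        rw [hy, ← Scheme.Hom.comp_apply, show proj G g Ω ≫ X.hom = _ from (isPullback_proj G g Ω).w,
          Scheme.Hom.comp_apply, hy₀s]
        haveI : Subsingleton ↥(Spec (CommRingCat.of Ω)) := inferInstanceAs (Subsingleton (PrimeSpectrum Ω))
        congr 1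
        exact Subsingleton.elim _ _
    have hΩemb : Topology.IsEmbedding (proj G g Ω) := by
      haveI : IsClosedImmersion (Spec.map (CommRingCat.ofHom (algebraMap V Ω))) := IsClosedImmersion.spec_of_surjective _ hb
      haveI : IsClosedImmersion (proj G g Ω) :=
        MorphismProperty.of_isPullback (isPullback_proj G g Ω).flip ‹IsClosedImmersion (Spec.map (CommRingCat.ofHom (algebraMap V Ω)))›
      exact (proj G g Ω).isEmbedding
    let e2 : ↥(f ⁻¹' {f y₀}) ≃ₜ H'.left :=
      ((I.subschemeι.isEmbedding.homeomorphImage _).trans (Homeomorph.setCongr (hspec.trans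
        (Set.image_preimage_eq_inter_range (f := proj G g Ω) (t := C)).symm))).trans
        ((hΩemb.homeomorphImage _).symm.trans ((Homeomorph.setCongr hrange.symm).trans i'.left.isClosedEmbedding.isEmbedding.toHomeomorph.symm))
    have hd3 : topologicalKrullDim ↥(f.fiber (f y₀)) = topologicalKrullDim H'.left := by
      rw [IsHomeomorph.topologicalKrullDim_eq _ ((f.fiberHomeo (f y₀)).trans e2).isHomeomorph]
    have hd4 : topologicalKrullDim H'.left = topologicalKrullDim K.left := by
      rw [← (GrpField.equidimensional H').2 _ (Set.range j.left) j.left.isOpenEmbedding.isOpen_range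
        ⟨rpt (1 : 𝟙_ _ ⟶ K), rfl⟩]
      exact (IsHomeomorph.topologicalKrullDim_eq _ j.left.isOpenEmbedding.isEmbedding.toHomeomorph.isHomeomorph).symm
    rw [hd1, ← hd4, ← hd3]
    exact hb1.trans hd2
  · intro hsol
    obtain ⟨n, hn⟩ := Group.IsSolvable.solvable (G := 𝟙_ (Over (Spec (CommRingCat.of L))) ⟶ H)
    haveI := isSolvable_of_finite (n := n) (hfin.subset fun z hz => (map_derived_le Ω φ ψ hφ n) ⟨z, hz, rfl⟩ |>
      fun h => by rw [hn, Subgroup.map_bot] at h; exact h)
    exact Chev.Borel.isSolvableGrp_of_rp K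
  · intro hnil
    obtain ⟨n, hn⟩ := Subgroup.nilpotent_iff_lowerCentralSeries.1 hnil
    haveI := isNilpotent_of_finite (n := n) (hfin.subset fun z hz => (map_lcs_le Ω φ ψ hφ n) ⟨z, hz, rfl⟩ |>
      fun h => by rw [hn, Subgroup.map_bot] at h; exact h)
    exact isNilpotentGrp_of_rp Ω K
  · intro hcomm
    have hn : derivedSeries (𝟙_ (Over (Spec (CommRingCat.of L))) ⟶ H) 1 = ⊥ := by
      rw [derivedSeries_succ, derivedSeries_zero, Subgroup.commutator_eq_bot_iff_le_centralizer]
      exact fun x _ y _ => hcomm y x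
    exact isCommMonObj_of_rp (commute_of_finite (hfin.subset fun z hz => (map_derived_le Ω φ ψ hφ 1) ⟨z, hz, rfl⟩ |>
      fun h => by rw [hn, Subgroup.map_bot] at h; exact h))

end Groth.Agent.SemiCont
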