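import Mathlib
import Groth.Agent.RedLR.Semi
import Groth.Agent.UnipMult.Eigen
import Groth.Agent.UnipTor.Main

/-!
# Homomorphisms from unipotent groups to tori
-/

universe u

open CategoryTheory CategoryTheory.Limits MonoidalCategory CartesianMonoidalCategory MonObj GrpObj AlgebraicGeometry
open scoped TensorProduct

set_option backward.isDefEq.respectTransparency false

noncomputable section

namespace Groth.Agent.SemiCont

variable {k : Type u} [Field k] [IsAlgClosed k]

/-- A homomorphism from a group without subtori to a torus is trivial. -/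
theorem eq_one_of_noSubtorus_torus {U T : Over (Spec (CommRingCat.of k))} [GrpObj U] [GrpObj T] [IsAffine U.left]
    [Smooth U.hom] [ConnectedSpace U.left] (hU : Red.HasNoSubtorus k U) (hT : Red.IsTorus T) (f : U ⟶ T) [IsMonHom f] :
    f = 1 := by
  obtain ⟨A, _, e, he⟩ := FinHopf.exists_hopf (R := CommRingCat.of k) U
  haveI := he
  haveI : IsIso e.hom.left := inferInstanceAs (IsIso ((Over.forget _).map e.hom))
  haveI : Algebra.FiniteType k A := by
    have h0 : LocallyOfFiniteType (e.hom.left ≫ U.hom) := inferInstance
    rw [Over.w e.hom] at h0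
    exact RingHom.finiteType_algebraMap.1 ((HasRingHomProperty.Spec_iff (P := @LocallyOfFiniteType)).1 h0)
  haveI : _root_.IsReduced A := by
    haveI : IsReduced U.left := SmoothRed.isReduced_of_smooth_scheme U.hom
    haveI : IsReduced (Spec (CommRingCat.of A)) := isReduced_of_isOpenImmersion e.hom.left
    exact (affine_isReduced_iff (CommRingCat.of A)).mp inferInstance
  have hA := RedLR.isUnipotent_of_hasNoSubtorus e hU
  obtain ⟨B, _, _, d, hd, hft, -, ⟨M, _, ⟨E⟩⟩⟩ := Chev.Borel.exists_hopf_torus hT
  haveI := hd
  let v : (MTBridge.specGrp k A).X ⟶ (MTBridge.specGrp k B).X := e.hom ≫ f ≫ d.inv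
  haveI : IsMonHom v := by dsimp [v]; infer_instance
  obtain ⟨φ, hφ⟩ := MTBridge.exists_bialgHom v
  have htriv : ∀ b : B, φ b = algebraMap k A (Coalgebra.counit (R := k) b) := by
    intro b
    obtain ⟨y, rfl⟩ : ∃ y, (E.symm : MonoidAlgebra k M →ₐc[k] B) y = b :=
      (E.symm : MonoidAlgebra k M ≃ₐc[k] B).surjective b
    induction y using MonoidAlgebra.induction_linear with
    | zero => simp
    | add a b ha hb => simp only [map_add, ha, hb]
    | single m c =>
      rw [show MonoidAlgebra.single m c = c • MonoidAlgebra.single m (1 : k) by simp, map_smul, map_smul, map_smul]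
      have hg := ((MonoidAlgebra.isGroupLikeElem_single_one (R := k) (A := k) m).map
        (E.symm : MonoidAlgebra k M →ₐc[k] B)).map φ
      have h1 : ((1 : k) ⊗ₜ[k] φ ((E.symm : MonoidAlgebra k M →ₐc[k] B) (MonoidAlgebra.single m 1)) : k ⊗[k] A) = 1 := by
        refine UnipMult.groupLike_eq_one hA _ ?_ ?_
        · rw [TensorProduct.comul_tmul]
          show TensorProduct.AlgebraTensorModule.tensorTensorTensorComm k k k k k k A A
            (Coalgebra.comul (R := k) (1 : k) ⊗ₜ[k] Coalgebra.comul (R := k) (φ ((E.symm : MonoidAlgebra k M →ₐc[k] B) (MonoidAlgebra.single m 1)))) = _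
          rw [hg.comul_eq_tmul_self]
          simp
        · intro h0
          have h2 := congrArg (TensorProduct.lid k A) h0
          rw [TensorProduct.lid_tmul, one_smul, map_zero] at h2
          have h3 := hg.counit_eq_one
          rw [show φ ((E.symm : MonoidAlgebra k M →ₐc[k] B) (MonoidAlgebra.single m 1)) = 0 from h2, map_zero] at h3
          exact zero_ne_one h3
      have h2 := congrArg (TensorProduct.lid k A) h1
      rw [TensorProduct.lid_tmul, one_smul, Algebra.TensorProduct.one_def, TensorProduct.lid_tmul, one_smul] at h2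
      have h4 : Coalgebra.counit (R := k) ((E.symm : MonoidAlgebra k M →ₐc[k] B) (MonoidAlgebra.single m (1 : k))) = 1 :=
        ((MonoidAlgebra.isGroupLikeElem_single_one (R := k) (A := k) m).map
          (E.symm : MonoidAlgebra k M →ₐc[k] B)).counit_eq_one
      rw [h2, h4, smul_eq_mul, _root_.mul_one, Algebra.algebraMap_eq_smul_one]
  have hv : v = 1 := by
    refine Over.OverMorphism.ext ?_
    rw [hφ]
    have : (φ : B →ₐ[k] A) = (WithConv.ofConv (1 : WithConv (B →ₐ[k] A))) := AlgHom.ext fun a => by
      rw [AlgHom.convOne_apply]; exact htriv a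
    rw [this]
    exact congrArg (fun x => x.left) (Spec.mapMulEquiv (R := k) (S := B) (T := A)).map_one
  have h5 : f = e.inv ≫ v ≫ d.hom := by simp [v]
  rw [h5, hv, MonObj.one_comp, MonObj.comp_one]

end Groth.Agent.SemiCont
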