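import Groth.Agent.SemiCont.Fibre
import Groth.Agent.SemiCont.NoSub
import Groth.Agent.Chev.SAExt
import Groth.Agent.Chev.TorusImage
import Groth.Agent.Chev.Descent
import Groth.Agent.ZarConn.FieldLevel
import Groth.Agent.GModLib.RadChar
import Groth.Agent.MTBridge.MonoTori
import Groth.Agent.MTBridge.EssFree
import Groth.Agent.MTBridge.MonoClosed

/-!
# Isogeny invariance of unipotence, solvability, nilpotence and commutativity
-/

universe u

open CategoryTheory CategoryTheory.Limits MonoidalCategory CartesianMonoidalCategory MonObj GrpObj AlgebraicGeometry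
open Groth.Agent.SubGen (rpt exists_rpt rpt_injective rpt_mem_closedPoints map_rpt)

set_option backward.isDefEq.respectTransparency false
set_option synthInstance.maxHeartbeats 400000

set_option linter.style.haveILetI false
set_option linter.unusedSectionVars false

noncomputable section

namespace Groth.Agent.SemiCont

variable {k : Type u} [Field k] [IsAlgClosed k] {G H : Over (Spec (CommRingCat.of k))} [GrpObj G] [GrpObj H]
  [Smooth G.hom] [Smooth H.hom] [QuasiCompact G.hom] [QuasiCompact H.hom] [ConnectedSpace G.left]
  (f : G ⟶ H) [IsMonHom f] [Surjective f.left] [IsFinite f.left]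

local notation "RPt" K:max => (𝟙_ (Over (Spec (CommRingCat.of k))) ⟶ K)

/-- The map of rational points. -/
def ptsMap : (RPt G) →* (RPt H) :=
  { toFun := fun z => z ≫ f, map_one' := MonObj.one_comp f, map_mul' := fun x y => MonObj.mul_comp x y f }

omit [ConnectedSpace G.left] [IsFinite f.left] in
theorem ptsMap_surjective : Function.Surjective (ptsMap f) := fun w => Chev.Borel.exists_rp_preimage f w

omit [ConnectedSpace G.left] [Surjective f.left] in
theorem finite_ker : ((ptsMap f).ker : Set (RPt G)).Finite := by
  refine ((f.left.finite_preimage_singleton (rpt (1 : RPt H))).preimage rpt_injective.injOn).subset fun z hz => ?_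
  show f.left (rpt z) = rpt (1 : RPt H)
  rw [map_rpt]
  exact congrArg rpt hz

include f in
theorem isSolvable_iff : Group.IsSolvable (RPt G) ↔ Group.IsSolvable (RPt H) := by
  refine ⟨fun h => Group.isSolvable_of_surjective (ptsMap_surjective f), fun h => ?_⟩
  obtain ⟨n, hn⟩ := Group.IsSolvable.solvable (G := RPt H)
  refine isSolvable_of_finite (n := n) ((finite_ker f).subset fun z hz => ?_)
  show ptsMap f z = 1
  have := map_derivedSeries_le_derivedSeries (ptsMap f) n ⟨z, hz, rfl⟩
  rwa [hn, Subgroup.mem_bot] at this

include f in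
theorem isNilpotent_iff : Group.IsNilpotent (RPt G) ↔ Group.IsNilpotent (RPt H) := by
  refine ⟨fun h => Group.nilpotent_of_surjective (ptsMap f) (ptsMap_surjective f), fun h => ?_⟩
  obtain ⟨n, hn⟩ := Subgroup.nilpotent_iff_lowerCentralSeries.1 h
  refine isNilpotent_of_finite (n := n) ((finite_ker f).subset fun z hz => ?_)
  show ptsMap f z = 1
  have h1 : ptsMap f z ∈ (Subgroup.lowerCentralSeries (⊤ : Subgroup (RPt G)) n).map (ptsMap f) := ⟨z, hz, rfl⟩
  rw [Subgroup.map_lowerCentralSeries, Subgroup.map_top_of_surjective _ (ptsMap_surjective f), hn] at h1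
  exact Subgroup.mem_bot.1 h1

include f in
theorem comm_iff : (∀ x y : RPt G, x * y = y * x) ↔ ∀ x y : RPt H, x * y = y * x := by
  refine ⟨fun h x y => ?_, fun h => commute_of_finite ((finite_ker f).subset fun z hz => ?_)⟩
  · obtain ⟨a, rfl⟩ := ptsMap_surjective f x
    obtain ⟨b, rfl⟩ := ptsMap_surjective f y
    rw [← map_mul, h, map_mul]
  · show ptsMap f z = 1
    have h1 := map_derivedSeries_le_derivedSeries (ptsMap f) 1 ⟨z, hz, rfl⟩
    have h2 : derivedSeries (RPt H) 1 = ⊥ := by
      rw [derivedSeries_succ, derivedSeries_zero, Subgroup.commutator_eq_bot_iff_le_centralizer]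
      exact fun x _ y _ => h y x
    rwa [h2, Subgroup.mem_bot] at h1

omit [IsMonHom f] [Surjective f.left] [IsFinite f.left] in
/-- A connected group with finitely many points is trivial. -/
theorem rp_eq_one_of_finite (h : (Set.univ : Set (RPt G)).Finite) (z : RPt G) : z = 1 := by
  have := constant_of_finite (𝟙 G) h (fun x => trivial) z 1
  simpa using this

omit [IsMonHom f] [Surjective f.left] [IsFinite f.left] in
theorem isTrivialGrp_of_rp [IsSeparated G.hom] (h : ∀ z : RPt G, z = 1) : Red.IsTrivialGrp G := by
  refine GModLib.isTrivialGrp_of_id_eq_one ?_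
  haveI : IsReduced G.left := SmoothRed.isReduced_of_smooth_scheme G.hom
  refine Chev.BorelFixed.hom_ext_rp fun z => ?_
  rw [Category.comp_id, MonObj.comp_one, h z]

include f in
/-- Having no subtorus is invariant under isogenies. -/
theorem hasNoSubtorus_iff [IsAffine G.left] [IsAffine H.left] :
    Red.HasNoSubtorus k G ↔ Red.HasNoSubtorus k H := by
  constructor
  · intro hG T gT j hjm hjM hT
    haveI := Chev.connectedSpace_of_isTorus hT
    haveI := Chev.smooth_of_isTorus hT
    haveI := Chev.isAffine_of_isTorus hT
    haveI := isAffineHom_of_isAffine T.hom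
    haveI : IsAffineHom H.hom := isAffineHom_of_isAffine H.hom
    haveI : IsClosedImmersion j.left := MTBridge.isClosedImmersion_of_mono
      (MTBridge.locally_of_isMultTypeFT' T (MTBridge.isMultTypeFT_of_isTorus T hT)) inferInstance j
    -- the preimage of the torus
    haveI : LocallyOfFiniteType G.hom := inferInstance
    let P : Over (Spec (CommRingCat.of k)) := Over.mk (pullback.fst f.left j.left ≫ G.hom)
    let iP : P ⟶ G := Over.homMk (pullback.fst f.left j.left) rfl
    let p : P ⟶ T := Over.homMk (pullback.snd f.left j.left) (by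
      show pullback.snd f.left j.left ≫ T.hom = pullback.fst f.left j.left ≫ G.hom
      rw [← Over.w j, ← pullback.condition_assoc, Over.w f])
    haveI : IsClosedImmersion iP.left := inferInstanceAs (IsClosedImmersion (pullback.fst f.left j.left))
    let Φ : Subgroup (RPt G) := (ptsMap j).range.comap (ptsMap f)
    obtain ⟨P', gP', i', hm', hc', hs', hr'⟩ := GrpField.RatClosure.exists_subgroup_closure Φ
    haveI := hm'; haveI := hc'; haveI := hs'
    obtain ⟨K, gK, c, hcm, hco, hcr, hKs, hKc⟩ := GModLib.exists_open_connected P'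
    haveI := hcm; haveI := hco; haveI := hKs; haveI := hKc
    haveI : IsClosedImmersion c.left := by
      refine IsClosedImmersion.of_isPreimmersion _ ?_
      rw [hcr]; exact isClosed_connectedComponent
    haveI : IsAffine P'.left := isAffine_of_isAffineHom i'.left
    haveI : IsAffine K.left := isAffine_of_isAffineHom c.left
    haveI : Mono (c ≫ i') := by
      haveI : Mono (c.left ≫ i'.left) := inferInstance
      haveI : Mono (c ≫ i').left := ‹Mono (c.left ≫ i'.left)›
      exact Over.mono_of_mono_left _
    have hK : Red.HasNoSubtorus k K := fun T' _ u _ _ hT' => hG T' (u ≫ c ≫ i') hT'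
    -- rational points of the preimage map into the torus
    have hsub : ∀ z : RPt P', z ≫ i' ∈ Φ := by
      intro z
      have h1 : i'.left (rpt z) ∈ closure (GrpField.RatClosure.pt '' (Φ : Set _)) := hr'.le ⟨_, rfl⟩
      have h2 : f.left (i'.left (rpt z)) ∈ Set.range j.left := by
        have hcl : IsClosed (f.left ⁻¹' Set.range j.left) :=
          j.left.isClosedEmbedding.isClosed_range.preimage f.left.continuous
        refine (hcl.closure_subset_iff.2 ?_) h1
        rintro _ ⟨w, hw, rfl⟩
        obtain ⟨t, ht⟩ := hw
        exact ⟨rpt t, (map_rpt j t).trans ((congrArg rpt ht).trans (map_rpt f w).symm)⟩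
      rw [map_rpt, map_rpt] at h2
      obtain ⟨t, ht⟩ := Groth.Agent.SubGen.exists_rat_lift j ((z ≫ i') ≫ f) (IsLocalRing.closedPoint k) h2
      exact ⟨t, ht⟩
    have hlift : ∃ v : P' ⟶ T, v ≫ j = i' ≫ f := by
      haveI : IsReduced P'.left := SmoothRed.isReduced_of_smooth_scheme P'.hom
      haveI : JacobsonSpace P'.left := LocallyOfFiniteType.jacobsonSpace P'.hom
      have hrg : Set.range (i' ≫ f).left ⊆ Set.range j.left := by
        rintro _ ⟨w, rfl⟩
        have h3 : closedPoints P'.left ⊆ (i' ≫ f).left ⁻¹' Set.range j.left := fun v hv => by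
          obtain ⟨z, rfl⟩ := exists_rpt hv
          obtain ⟨t, ht⟩ := hsub z
          refine ⟨rpt t, (map_rpt j t).trans ((congrArg rpt ht).trans ?_)⟩
          exact (congrArg rpt (Category.assoc _ _ _)).trans (map_rpt (i' ≫ f) z).symm
        exact (j.left.isClosedEmbedding.isClosed_range.preimage (i' ≫ f).left.continuous).closure_subset_iff.2 h3
          (closure_closedPoints (X := P'.left) ▸ Set.mem_univ w)
      obtain ⟨l, hl⟩ := RedSepLib.exists_lift_of_isReduced _ j.left hrg
      exact ⟨Over.homMk l (by rw [← Over.w j, reassoc_of% hl, Over.w]), Over.OverMorphism.ext hl⟩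
    obtain ⟨v, hv⟩ := hlift
    haveI : IsMonHom (v ≫ j) := by rw [hv]; infer_instance
    haveI : IsMonHom v := Chev.isMonHom_of_comp v j
    have h1 := eq_one_of_noSubtorus_torus hK hT (c ≫ v)
    -- finitely many cosets
    have hcoset : ∀ z : RPt P', ∀ w : RPt P', (∃ x : RPt K, x ≫ c = z * w⁻¹) → z ≫ v = w ≫ v := by
      intro z w ⟨x, hx⟩
      have h2 : (z * w⁻¹) ≫ v = 1 := by rw [← hx, Category.assoc, h1, MonObj.comp_one]
      rw [MonObj.mul_comp, GrpObj.inv_comp, mul_inv_eq_one] at h2
      exact h2
    have hsurj : ∀ t : RPt T, ∃ z : RPt P', z ≫ v = t := by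
      intro t
      obtain ⟨w, hw⟩ := ptsMap_surjective f (t ≫ j)
      have hwΦ : w ∈ Φ := ⟨t, hw.symm⟩
      obtain ⟨z, hz⟩ := Groth.Agent.SubGen.exists_rat_lift i' w (IsLocalRing.closedPoint k)
        (hr'.ge (subset_closure ⟨w, hwΦ, rfl⟩))
      refine ⟨z, (cancel_mono j).1 ?_⟩
      rw [Category.assoc, hv, ← Category.assoc, hz]
      exact hw
    refine isTrivialGrp_of_rp (G := T) (rp_eq_one_of_finite ?_)
    haveI : LocallyOfFiniteType P'.hom := inferInstance
    haveI : IsNoetherian P'.left := by
      haveI : QuasiCompact P'.hom := by rw [← Over.w i']; infer_instance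
      haveI := LocallyOfFiniteType.isLocallyNoetherian P'.hom
      haveI : CompactSpace P'.left := QuasiCompact.compactSpace_of_compactSpace P'.hom
      exact {}
    -- one value for each connected component
    classical
    let q : _root_.ConnectedComponents P'.left → RPt T := fun cc =>
      if h : ∃ z : RPt P', _root_.ConnectedComponents.mk (rpt z) = cc then h.choose ≫ v else 1
    haveI : Finite (_root_.ConnectedComponents P'.left) := ZarConn.finite_components _
    refine (Set.finite_range q).subset fun t _ => ?_
    obtain ⟨z, rfl⟩ := hsurj t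
    refine ⟨_root_.ConnectedComponents.mk (rpt z), ?_⟩
    have h : ∃ w : RPt P', _root_.ConnectedComponents.mk (rpt w) = _root_.ConnectedComponents.mk (rpt z) := ⟨z, rfl⟩
    simp only [q, dif_pos h]
    refine hcoset _ _ ?_
    -- the quotient lies in the neutral component
    let r : P' ⟶ P' := 𝟙 P' * (toUnit P' ≫ z⁻¹)
    have hr : ∀ x : RPt P', x ≫ r = x * z⁻¹ := fun x => by
      simp only [r, MonObj.comp_mul, Category.comp_id, Chev.Borel.rp_const]
    have hmem : rpt (h.choose * z⁻¹) ∈ Set.range c.left := by
      rw [hcr, ← hr, ← map_rpt]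
      have hz1 : r.left (rpt z) = η[P'].left (IsLocalRing.closedPoint k) := by
        rw [map_rpt, hr, mul_inv_cancel, Hom.one_def, toUnit_unique (toUnit (𝟙_ _)) (𝟙 _), Category.id_comp]
        rfl
      rw [← hz1]
      refine r.left.continuous.image_connectedComponent_subset (rpt z) ⟨_, ?_, rfl⟩
      rw [← _root_.ConnectedComponents.coe_eq_coe']
      exact h.choose_spec
    exact Groth.Agent.SubGen.exists_rat_lift c _ (IsLocalRing.closedPoint k) hmem
  · intro hH T gT j hjm hjM hT
    haveI := Chev.connectedSpace_of_isTorus hT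
    haveI := Chev.smooth_of_isTorus hT
    haveI := Chev.isAffine_of_isTorus hT
    haveI := isAffineHom_of_isAffine T.hom
    haveI : IsAffineHom G.hom := isAffineHom_of_isAffine G.hom
    haveI : IsClosedImmersion j.left := MTBridge.isClosedImmersion_of_mono
      (MTBridge.locally_of_isMultTypeFT' T (MTBridge.isMultTypeFT_of_isTorus T hT)) inferInstance j
    haveI : IsAffineHom H.hom := isAffineHom_of_isAffine H.hom
    haveI : QuasiCompact (j ≫ f).left := by rw [Over.comp_left]; infer_instance
    obtain ⟨C, gC, iC, g, hiC, hg, hgi, hicl, hgd, hgq, hgs⟩ := GrpField.SchImg.exists_image (j ≫ f)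
    haveI := hiC; haveI := hg; haveI := hicl; haveI := hgd; haveI := hgq; haveI := hgs
    haveI : LocallyOfFiniteType C.hom := by rw [← Over.w iC]; infer_instance
    haveI : QuasiCompact C.hom := by rw [← Over.w iC]; infer_instance
    haveI : GeometricallyReduced T.hom := Rigid.geometricallyReduced_of_smooth _
    haveI : GeometricallyReduced C.hom := GrpField.SchImg.geometricallyReduced_of_schDom g
    haveI : IsReduced T.left := SmoothRed.isReduced_of_smooth_scheme T.hom
    haveI : IsReduced C.left := IsSchemeTheoreticallyDominant.isReduced g.left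
    letI : GrpObj (Over.mk C.hom) := gC
    haveI : Smooth C.hom := GrpBasic.smooth_of_grpObj_perfect C.hom
    haveI : Mono iC := GrpField.SchImg.mono_of_isClosedImmersion iC
    haveI : IsIso C.hom := hH C iC (Chev.isTorus_of_surjective hT g)
    refine isTrivialGrp_of_rp (G := T) (rp_eq_one_of_finite ?_)
    refine (((finite_ker f).preimage (f := fun z : RPt T => z ≫ j) ?_)).subset fun z _ => ?_
    · exact fun a _ b _ h => (cancel_mono j).1 h
    · show (z ≫ j) ≫ f = 1
      rw [Category.assoc, ← hgi, ← Category.assoc]
      have : z ≫ g = 1 := Over.OverMorphism.ext ((cancel_mono C.hom).1 (by rw [Over.w, Over.w]))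
      rw [this, MonObj.one_comp]

end Groth.Agent.SemiCont
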