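import Groth.Agent.SemiCont.Closure

/-!
# Limits of groups of points
-/

universe u

open CategoryTheory CategoryTheory.Limits MonoidalCategory CartesianMonoidalCategory MonObj GrpObj AlgebraicGeometry TopologicalSpace

set_option backward.isDefEq.respectTransparency false

noncomputable section

namespace Groth.Agent.SemiCont

variable {V : Type u} [CommRing V] [IsDomain V] [ValuationRing V]
  {L : Type u} [Field L] [IsAlgClosed L] [Algebra V L] [IsFractionRing V L]
  (Ω : Type u) [Field Ω] [Algebra V Ω]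
  {X : Over (Spec (CommRingCat.of V))} [GrpObj X] [LocallyOfFiniteType X.hom]

omit [IsAlgClosed L] [LocallyOfFiniteType X.hom] [GrpObj X] in
/-- Limits of the values of a section. -/
theorem mem_Cl_section (e : 𝟙_ (Over (Spec (CommRingCat.of V))) ⟶ X) :
    toUnit (ptO V Ω) ≫ e ∈ Cl Ω ({toUnit (ptO V L) ≫ e} : Set (ptO V L ⟶ X)) := by
  show pnt (toUnit (ptO V Ω) ≫ e) ∈ closure _
  rw [Set.image_singleton, pnt_comp, pnt_comp, ← specializes_iff_mem_closure]
  refine Specializes.map ?_ e.left.continuous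
  refine (PrimeSpectrum.le_iff_specializes _ _).1 ?_
  show (Ideal.comap _ _ : Ideal V) ≤ _
  rw [show (IsLocalRing.closedPoint L).asIdeal = ⊥ from IsLocalRing.maximalIdeal_eq_bot, ← RingHom.ker_eq_comap_bot]
  exact ((RingHom.injective_iff_ker_eq_bot _).1 (IsFractionRing.injective V L)).trans_le bot_le

/-- The subgroup of limits of a group of points. -/
def ClSub (S : Subgroup (ptO V L ⟶ X)) : Subgroup (ptO V Ω ⟶ X) where
  carrier := Cl Ω (S : Set (ptO V L ⟶ X))
  one_mem' := Cl_mono (Set.singleton_subset_iff.2 S.one_mem) (mem_Cl_section Ω η[X])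
  mul_mem' := fun {x y} hx hy => by
    rw [Hom.mul_def]
    refine Cl_mono ?_ (Cl_comp μ[X] (Cl_lift hx hy))
    rintro _ ⟨_, ⟨a, ha, b, hb, rfl⟩, rfl⟩
    exact S.mul_mem ha hb
  inv_mem' := fun {x} hx => by
    rw [Hom.inv_def]
    refine Cl_mono ?_ (Cl_comp (GrpObj.inv (X := X)) hx)
    rintro _ ⟨a, ha, rfl⟩
    exact S.inv_mem ha

theorem mem_ClSub {S : Subgroup (ptO V L ⟶ X)} {x : ptO V Ω ⟶ X} :
    x ∈ ClSub Ω S ↔ pnt x ∈ closure (pnt '' (S : Set (ptO V L ⟶ X))) := Iff.rfl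

omit [GrpObj X] [LocallyOfFiniteType X.hom] [IsAlgClosed L] in
theorem lift_comm {Y : Over (Spec (CommRingCat.of V))} [GrpObj Y] {Z : Over (Spec (CommRingCat.of V))} (x y : Z ⟶ Y) :
    lift x y ≫ (fst Y Y * snd Y Y * (fst Y Y)⁻¹ * (snd Y Y)⁻¹) = x * y * x⁻¹ * y⁻¹ := by
  simp [MonObj.comp_mul, GrpObj.comp_inv]

/-- Limits of commutators. -/
theorem commutator_le (S T : Subgroup (ptO V L ⟶ X)) : ⁅ClSub Ω S, ClSub Ω T⁆ ≤ ClSub Ω ⁅S, T⁆ := by
  rw [Subgroup.commutator_le]
  intro x hx y hy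
  rw [commutatorElement_def, ← lift_comm x y]
  refine Cl_mono ?_ (Cl_comp _ (Cl_lift hx hy))
  rintro _ ⟨_, ⟨a, ha, b, hb, rfl⟩, rfl⟩
  show lift a b ≫ _ ∈ ⁅S, T⁆
  rw [lift_comm, ← commutatorElement_def]
  exact Subgroup.commutator_mem_commutator ha hb

theorem ClSub_mono {S T : Subgroup (ptO V L ⟶ X)} (h : S ≤ T) : ClSub Ω S ≤ ClSub Ω T := Cl_mono h

/-- A point of an open subset of a closed set which is a single point there. -/
theorem exists_open_isolated (hb : Function.Surjective (algebraMap V Ω)) :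
    ∃ U : X.left.Opens, pnt (1 : ptO V Ω ⟶ X) ∈ U ∧
      ∀ x ∈ ClSub Ω (⊥ : Subgroup (ptO V L ⟶ X)), pnt x ∈ U → pnt x = pnt (1 : ptO V Ω ⟶ X) := by
  obtain ⟨U, hU, hmem, -⟩ := exists_isAffineOpen_mem_and_subset (U := (⊤ : X.left.Opens))
    (x := pnt (1 : ptO V Ω ⟶ X)) trivial
  refine ⟨U, hmem, fun x hx hxU => ?_⟩
  have hc : pnt x ∈ closure {pnt (1 : ptO V L ⟶ X)} := by
    have := (mem_ClSub Ω).1 hx
    rwa [Subgroup.coe_bot, Set.image_singleton] at this
  -- the unit section is a closed immersion of the base into an affine open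
  let e : Spec (CommRingCat.of V) ⟶ X.left := η[X].left
  have hsp : ∀ (K : Type u) [Field K] [Algebra V K], pnt (1 : ptO V K ⟶ X) =
      e (Spec.map (CommRingCat.ofHom (algebraMap V K)) (IsLocalRing.closedPoint K)) := fun K _ _ => rfl
  haveI : IsLocalRing V := inferInstance
  have hker : (IsLocalRing.closedPoint Ω).asIdeal.comap (algebraMap V Ω) = IsLocalRing.maximalIdeal V := by
    rw [show (IsLocalRing.closedPoint Ω).asIdeal = ⊥ from IsLocalRing.maximalIdeal_eq_bot, ← RingHom.ker_eq_comap_bot]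
    exact IsLocalRing.eq_maximalIdeal (RingHom.ker_isMaximal_of_surjective _ hb)
  have hall : ∀ p : PrimeSpectrum V, e p ∈ U := fun p => by
    refine Specializes.mem_open ?_ U.2 hmem
    rw [hsp]
    refine Specializes.map ((PrimeSpectrum.le_iff_specializes p _).1 ?_) e.continuous
    exact (IsLocalRing.le_maximalIdeal p.isPrime.ne_top).trans hker.ge
  let e' : Spec (CommRingCat.of V) ⟶ U.toScheme := IsOpenImmersion.lift U.ι e (by
    rw [Scheme.Opens.range_ι]; exact Set.range_subset_iff.2 hall)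
  haveI : IsAffine U.toScheme := hU
  haveI : IsClosedImmersion e' := by
    have h1 : e' ≫ U.ι ≫ X.hom = 𝟙 _ := by
      rw [IsOpenImmersion.lift_fac_assoc]
      exact Over.w η[X]
    haveI : IsClosedImmersion (e' ≫ U.ι ≫ X.hom) := by rw [h1]; infer_instance
    haveI : IsSeparated (U.ι ≫ X.hom) := inferInstance
    exact IsClosedImmersion.of_comp e' (U.ι ≫ X.hom)
  have hclosed : IsClosed (Set.range e') := e'.isClosedEmbedding.isClosed_range
  have hxr : pnt x ∈ Set.range e := by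
    obtain ⟨C, hC, hCe⟩ := U.ι.isEmbedding.isInducing.isClosed_iff.1 hclosed
    have h1 : pnt (1 : ptO V L ⟶ X) ∈ C := by
      rw [hsp]
      show _ ∈ C
      rw [← IsOpenImmersion.lift_fac U.ι e (by rw [Scheme.Opens.range_ι]; exact Set.range_subset_iff.2 hall),
        Scheme.Hom.comp_apply, ← Set.mem_preimage, hCe]
      exact ⟨_, rfl⟩
    have h2 : pnt x ∈ C := (hC.closure_subset_iff.2 (Set.singleton_subset_iff.2 h1)) hc
    obtain ⟨p, hp⟩ : (⟨pnt x, hxU⟩ : U) ∈ Set.range e' := by rw [← hCe]; exact h2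
    refine ⟨p, ?_⟩
    rw [← IsOpenImmersion.lift_fac U.ι e (by rw [Scheme.Opens.range_ι]; exact Set.range_subset_iff.2 hall),
      Scheme.Hom.comp_apply, hp]
    rfl
  obtain ⟨p, hp⟩ := hxr
  rw [← hp, hsp]
  congr 1
  have h3 := congrArg X.hom hp
  rw [← Scheme.Hom.comp_apply, show e ≫ X.hom = 𝟙 _ from Over.w η[X]] at h3
  rw [show p = X.hom (pnt x) from h3, pnt, ← Scheme.Hom.comp_apply, Over.w x]
  rfl

theorem map_derived_le {P Q : Type*} [Group P] [Group Q] (φ : Q →* (ptO V Ω ⟶ X)) (ψ : P →* (ptO V L ⟶ X))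
    (h : ∀ z, φ z ∈ ClSub Ω ψ.range) (n : ℕ) :
    (derivedSeries Q n).map φ ≤ ClSub Ω ((derivedSeries P n).map ψ) := by
  induction n with
  | zero =>
    rw [derivedSeries_zero, derivedSeries_zero, ← MonoidHom.range_eq_map, ← MonoidHom.range_eq_map]
    rintro _ ⟨z, rfl⟩
    exact h z
  | succ n ih =>
    rw [derivedSeries_succ, derivedSeries_succ, Subgroup.map_commutator, Subgroup.map_commutator]
    exact (Subgroup.commutator_mono ih ih).trans (commutator_le Ω _ _)

theorem map_lcs_le {P Q : Type*} [Group P] [Group Q] (φ : Q →* (ptO V Ω ⟶ X)) (ψ : P →* (ptO V L ⟶ X))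
    (h : ∀ z, φ z ∈ ClSub Ω ψ.range) (n : ℕ) :
    (Subgroup.lowerCentralSeries (⊤ : Subgroup Q) n).map φ ≤
      ClSub Ω ((Subgroup.lowerCentralSeries (⊤ : Subgroup P) n).map ψ) := by
  induction n with
  | zero =>
    rw [Subgroup.lowerCentralSeries_zero, Subgroup.lowerCentralSeries_zero, ← MonoidHom.range_eq_map,
      ← MonoidHom.range_eq_map]
    rintro _ ⟨z, rfl⟩
    exact h z
  | succ n ih =>
    rw [Subgroup.lowerCentralSeries_succ, Subgroup.lowerCentralSeries_succ, Subgroup.map_commutator,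
      Subgroup.map_commutator]
    refine (Subgroup.commutator_mono ih ?_).trans (commutator_le Ω _ _)
    rw [← MonoidHom.range_eq_map, ← MonoidHom.range_eq_map]
    rintro _ ⟨z, rfl⟩
    exact h z

end Groth.Agent.SemiCont
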